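import Groth.Agent.ArtFunLib.QuotLift.Family

/-!
# Extending a quotient along a small thickening when local extensions exist
-/

set_option autoImplicit false
set_option backward.isDefEq.respectTransparency false
set_option backward.isDefEq.respectTransparency.types false
set_option linter.style.haveILetI false
set_option linter.unusedSectionVars false

universe u

open CategoryTheory CategoryTheory.Limits AlgebraicGeometry Function IsLocalRing
open Groth.Agent.ArtFunLib.QuotLift

noncomputable section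

namespace Groth.Agent.LciLift29

variable {R R₀ : Type u} [CommRing R] [CommRing R₀] [IsLocalRing R] [IsArtinianRing R] {X X₀ : Scheme.{u}}
  (p : X ⟶ Spec (CommRingCat.of R)) {p₀ : X₀ ⟶ Spec (CommRingCat.of R₀)} {u : X₀ ⟶ X} [IsClosedImmersion u]
  {ψ : R →+* R₀} (hψ : Surjective ψ) (hkψ : RingHom.ker ψ = maximalIdeal R)
  (hu : IsPullback u p₀ p (Spec.map (CommRingCat.ofHom ψ))) (hsurj : Function.Surjective u)

variable {t : R} (ht : t ≠ 0) (htm : t ∈ maximalIdeal R) (hmt : ∀ a ∈ maximalIdeal R, a * t = 0)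
variable {E M : X.Modules} (hE : StFree p E) (a : E ⟶ M) [Epi a] (hM : StFreeMod p t M)

include hψ hkψ hu hsurj hE ht htm hmt hM in
/-- Existence of an extension when lifts exist at every stalk and stalkwise split extensions split. -/
theorem exists_extension_of_local [IsLocallyNoetherian X₀] (hP : Coh.IsCoh ((Scheme.Modules.pullback u).obj (kernel a)))
    (hloc : ∀ x, ∃ L : Submodule (X.presheaf.stalk x) (St E x), (∀ l ∈ L, stk a x l = 0) ∧
      (∀ q, stk a x q = 0 → ∃ e, q - rho p x t • e ∈ L) ∧ (∀ e, rho p x t • e ∈ L → InMax p M x (stk a x e)))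
    (hsplit : ∀ (W : X₀.Modules) (β : (Scheme.Modules.pullback u).obj M ⟶ W)
      (α : W ⟶ kernel ((Scheme.Modules.pullback u).map a)) (w : β ≫ α = 0),
      (ShortComplex.mk β α w).ShortExact → Coh.IsQCoh W →
        (∀ z, ∃ σ : St (kernel ((Scheme.Modules.pullback u).map a)) z →ₗ[X₀.presheaf.stalk z] St W z,
          ∀ v, stk α z (σ v) = v) → ∃ r, β ≫ r = 𝟙 _) :
    ∃ (s : kernel a ⟶ (Scheme.Modules.pushforward u).obj ((Scheme.Modules.pullback u).obj M))
      (φ : cokernel (kernel.ι s ≫ kernel.ι a) ⟶ M),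
      cokernel.π _ ≫ φ = a ∧ StFree p (cokernel (kernel.ι s ≫ kernel.ι a)) ∧
        ∀ x y, stk φ x y = 0 → ∃ w, y = rho p x t • w := by
  let F := Scheme.Modules.pullback u
  let inc := kernel.ι a
  let τ : E ⟶ kernel a := kernel.lift a (TwSh.scalarEnd E (Coh.toGlobal p t)) (scalarEnd_comp p a hM)
  have hτ : ∀ x (e : St E x), stk inc x (stk τ x e) = rho p x t • e := fun x e => by
    rw [← stk_comp, kernel.lift_ι, stk_scalarEnd p]
  haveI : Epi (F.map a) := F.map_epi a
  let a₀ := F.map a
  let α₀ : F.obj (kernel a) ⟶ kernel a₀ := kernel.lift a₀ (F.map inc) (by rw [← F.map_comp, kernel.condition, F.map_zero])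
  have ha₀ : ∀ z (e : St E (u z)), stk a₀ z (unitSt u z E e) = unitSt u z M (stk a (u z) e) :=
    fun z e => unitSt_natural u z a e
  -- `kernel a` covers the kernel on the closed fibre
  haveI hα₀ : Epi α₀ := Coherent.CohBC.epi_of_surjective_stalks _ fun z k => by
    obtain ⟨e, he⟩ := unitSt_surjective u z E (stk (kernel.ι a₀) z k)
    have h1 : InMax p M (u z) (stk a (u z) e) := by
      refine (unitSt_eq_zero_iff_inMax p hψ hkψ hu z M _).1 ?_
      rw [← ha₀, he, ← stk_comp, kernel.condition, stk_zero]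
    obtain ⟨g, hg, hga⟩ := h1.exists_preimage p a
    obtain ⟨q, hq⟩ := (exact_stk_kernel a (u z) (e - g)).1 (by rw [map_sub, hga, sub_self])
    refine ⟨unitSt u z _ q, injective_stk (kernel.ι a₀) z ?_⟩
    show stk (kernel.ι a₀) z (stk α₀ z (unitSt u z _ q)) = _
    rw [← stk_comp, kernel.lift_ι, unitSt_natural, hq, map_sub, (unitSt_eq_zero_iff_inMax p hψ hkψ hu z E g).2 hg,
      sub_zero, he]
  let m₀ : F.obj (kernel a) ⟶ F.obj (kernel a) := F.map (inc ≫ τ)
  have hm₀ : m₀ ≫ α₀ = 0 := by
    rw [← cancel_mono (kernel.ι a₀), Category.assoc, kernel.lift_ι, ← F.map_comp, Category.assoc, kernel.lift_ι,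
      zero_comp]
    refine hom_eq_zero_of_stk _ fun z w => ?_
    obtain ⟨q, rfl⟩ := unitSt_surjective u z (kernel a) w
    rw [unitSt_natural, stk_comp, stk_scalarEnd p]
    refine (unitSt_eq_zero_iff_inMax p hψ hkψ hu z E _).2 ?_
    letI := baseMod p E (u z)
    exact Submodule.smul_mem_smul (M := St E (u z)) (r := t) htm Submodule.mem_top
  let α : cokernel m₀ ⟶ kernel a₀ := cokernel.desc m₀ α₀ hm₀
  haveI : Epi α := epi_of_epi_fac (cokernel.π_desc m₀ α₀ hm₀)
  have hdesc : kernel.ι a₀ ≫ F.map τ ≫ cokernel.π m₀ = 0 := by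
    rw [← cancel_epi α₀, ← Category.assoc, kernel.lift_ι, ← Category.assoc, ← F.map_comp, comp_zero]
    exact cokernel.condition m₀
  let β : F.obj M ⟶ cokernel m₀ := Abelian.epiDesc a₀ (F.map τ ≫ cokernel.π m₀) hdesc
  have hβ : ∀ z (e : St E (u z)),
      stk β z (unitSt u z M (stk a (u z) e)) = stk (cokernel.π m₀) z (unitSt u z _ (stk τ (u z) e)) := fun z e => by
    rw [← ha₀, ← stk_comp, Abelian.comp_epiDesc, stk_comp, unitSt_natural]
  have w : β ≫ α = 0 := by
    rw [← cancel_epi a₀, Abelian.comp_epiDesc_assoc, Category.assoc, cokernel.π_desc, ← cancel_mono (kernel.ι a₀),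
      Category.assoc, kernel.lift_ι, ← F.map_comp, kernel.lift_ι, comp_zero, zero_comp]
    refine hom_eq_zero_of_stk _ fun z w => ?_
    obtain ⟨e, rfl⟩ := unitSt_surjective u z E w
    rw [unitSt_natural, stk_scalarEnd p]
    refine (unitSt_eq_zero_iff_inMax p hψ hkψ hu z E _).2 ?_
    letI := baseMod p E (u z)
    exact Submodule.smul_mem_smul (M := St E (u z)) (r := t) htm Submodule.mem_top
  have hexact : (ShortComplex.mk β α w).Exact := by
    rw [ShortComplex.exact_iff_epi_kernel_lift]
    refine Coherent.CohBC.epi_of_surjective_stalks _ fun z k => ?_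
    obtain ⟨v, hv⟩ := surjective_stk (cokernel.π m₀) z (stk (kernel.ι α) z k)
    obtain ⟨q, rfl⟩ := unitSt_surjective u z (kernel a) v
    have h1 : InMax p E (u z) (stk inc (u z) q) := by
      refine (unitSt_eq_zero_iff_inMax p hψ hkψ hu z E _).1 ?_
      rw [← unitSt_natural, ← kernel.lift_ι a₀ (F.map inc)
        (by rw [← F.map_comp, kernel.condition, F.map_zero]), stk_comp]
      show stk (kernel.ι a₀) z (stk α₀ z _) = 0
      have hk0 : stk α z (stk (kernel.ι α) z k) = 0 :=
        (stk_comp (kernel.ι α) α z k).symm.trans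
          ((congrArg (fun v => stk v z k) (kernel.condition α)).trans (stk_zero z k))
      rw [← cokernel.π_desc m₀ α₀ hm₀, stk_comp, hv]
      exact (congrArg (stk (kernel.ι a₀) z) hk0).trans (map_zero _)
    obtain ⟨e, he⟩ : ∃ e, InMax p (kernel a) (u z) (q - stk τ (u z) e) := by
      letI := baseMod p E (u z)
      letI := baseMod p M (u z)
      letI := baseMod p (kernel a) (u z)
      haveI : Module.Free R (St E (u z)) := hE _
      exact exists_sub_mem rfl (hM _) (stkR p a (u z)) (surjective_stk a _) (stkR p inc (u z))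
        (injective_stk inc _) (exact_stk_kernel a _) (stkR p τ (u z)) (hτ _) h1
    refine ⟨unitSt u z M (stk a (u z) e), injective_stk (kernel.ι α) z ?_⟩
    show stk (kernel.ι α) z (stk (kernel.lift α β w) z _) = _
    rw [← stk_comp, kernel.lift_ι, hβ, ← hv]
    refine congrArg (stk (cokernel.π m₀) z) (sub_eq_zero.1 ?_).symm
    rw [← map_sub]
    exact (unitSt_eq_zero_iff_inMax p hψ hkψ hu z _ _).2 he
  haveI : Mono β := Coherent.CohBC.mono_of_injective_stalks _ fun z => by
    refine (injective_iff_map_eq_zero (stk β z)).2 fun v hv => ?_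
    obtain ⟨m, rfl⟩ := unitSt_surjective u z M v
    obtain ⟨e, rfl⟩ := surjective_stk a (u z) m
    rw [hβ] at hv
    obtain ⟨v', hv'⟩ := exists_preimage_of_exact _ (ShortComplex.cokernelSequence_exact m₀) z _ hv
    obtain ⟨q, rfl⟩ := unitSt_surjective u z (kernel a) v'
    change stk (F.map (inc ≫ τ)) z _ = _ at hv'
    rw [unitSt_natural, stk_comp] at hv'
    have hd : InMax p (kernel a) (u z) (stk τ (u z) (e - stk inc (u z) q)) := by
      refine (unitSt_eq_zero_iff_inMax p hψ hkψ hu z _ _).1 ?_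
      rw [map_sub, map_sub, hv', sub_self]
    refine (unitSt_eq_zero_iff_inMax p hψ hkψ hu z M _).2 ?_
    have h := (exact_stk_kernel a (u z) (stk inc (u z) q)).2 ⟨q, rfl⟩
    letI := baseMod p E (u z)
    letI := baseMod p M (u z)
    letI := baseMod p (kernel a) (u z)
    haveI : Module.Free R (St E (u z)) := hE _
    have h2 : InMax p M (u z) (stk a (u z) (e - stk inc (u z) q)) :=
      mem_smul_top_of_smul_mem ht hmt rfl (hM _) (stkR p a (u z)) (stkR p inc (u z)) (exact_stk_kernel a _) hd
        (hτ _ _)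
    rwa [map_sub, h, sub_zero] at h2
  have hsec : ∀ z, ∃ σ : St (kernel a₀) z →ₗ[X₀.presheaf.stalk z] St (cokernel m₀) z, ∀ v, stk α z (σ v) = v := by
    intro z
    obtain ⟨L, hL0, hLdec, hLt⟩ := hloc (u z)
    have hmP : ∀ d, InMax p (kernel a) (u z) d → stk inc (u z) d ∈ L := by
      intro d hd
      letI := baseMod p (kernel a) (u z)
      refine Submodule.smul_induction_on hd (fun r hr y _ => ?_) fun b c hb hc => by rw [map_add]; exact L.add_mem hb hc
      obtain ⟨e, he⟩ := hLdec _ ((exact_stk_kernel a (u z) (stk inc (u z) y)).2 ⟨y, rfl⟩)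
      have h0 : rho p (u z) r • (rho p (u z) t • e) = 0 := by
        rw [smul_smul, ← map_mul, hmt r hr, map_zero, zero_smul]
      show stk inc (u z) (rho p (u z) r • y) ∈ L
      rw [(stk inc (u z)).map_smul, ← sub_zero (rho p (u z) r • stk inc (u z) y), ← h0, ← smul_sub]
      exact L.smul_mem _ he
    let π₀ := cokernel.π m₀
    let Λ : Submodule (X₀.presheaf.stalk z) (St (cokernel m₀) z) :=
      { carrier := {v | ∃ q, stk inc (u z) q ∈ L ∧ stk π₀ z (unitSt u z _ q) = v}
        zero_mem' := ⟨0, by rw [map_zero]; exact L.zero_mem, by rw [map_zero, map_zero]⟩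
        add_mem' := by
          rintro _ _ ⟨q, hq, rfl⟩ ⟨q', hq', rfl⟩
          exact ⟨q + q', by rw [map_add]; exact L.add_mem hq hq', by rw [map_add, map_add]⟩
        smul_mem' := by
          rintro r _ ⟨q, hq, rfl⟩
          obtain ⟨r', rfl⟩ := u.stalkMap_surjective z r
          exact ⟨r' • q, by rw [map_smul]; exact L.smul_mem _ hq, by rw [unitSt_smul, map_smul]⟩ }
    have hαβ : ∀ v, stk α z (stk β z v) = 0 := fun v => by rw [← stk_comp, w, stk_zero]
    have hbij : Bijective ((stk α z).comp Λ.subtype) := by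
      refine ⟨(injective_iff_map_eq_zero _).2 ?_, fun v => ?_⟩
      · rintro ⟨_, q, hq, rfl⟩ hv
        obtain ⟨m, hm⟩ := exists_preimage_of_exact _ hexact z _ hv
        obtain ⟨m', rfl⟩ := unitSt_surjective u z M m
        obtain ⟨e, rfl⟩ := surjective_stk a (u z) m'
        change stk β z _ = _ at hm
        rw [hβ] at hm
        have hm0 : stk π₀ z (unitSt u z (kernel a) q - unitSt u z (kernel a) (stk τ (u z) e)) = 0 := by
          rw [map_sub]; exact sub_eq_zero.2 hm.symm
        obtain ⟨v', hv'⟩ := exists_preimage_of_exact _ (ShortComplex.cokernelSequence_exact m₀) z _ hm0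
        obtain ⟨q', rfl⟩ := unitSt_surjective u z (kernel a) v'
        change stk (F.map (inc ≫ τ)) z _ = _ at hv'
        rw [unitSt_natural, stk_comp, ← map_sub] at hv'
        have hd : InMax p (kernel a) (u z) (q - stk τ (u z) e - stk τ (u z) (stk inc (u z) q')) := by
          refine (unitSt_eq_zero_iff_inMax p hψ hkψ hu z _ _).1 ?_
          rw [map_sub, ← hv', sub_self]
        have h3 := hmP _ hd
        rw [map_sub, map_sub, hτ, hτ, sub_sub, ← smul_add] at h3
        have h4 : rho p (u z) t • (e + stk inc (u z) q') ∈ L := by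
          have := L.sub_mem hq h3
          rwa [sub_sub_cancel] at this
        have h5 := hLt _ h4
        rw [map_add, (exact_stk_kernel a (u z) _).2 ⟨q', rfl⟩, add_zero] at h5
        refine Subtype.ext ?_
        show stk π₀ z _ = 0
        have h6 : unitSt u z M (stk a (u z) e) = 0 := (unitSt_eq_zero_iff_inMax p hψ hkψ hu z M _).2 h5
        have h7 : stk π₀ z (unitSt u z _ q) = stk π₀ z (unitSt u z _ (stk τ (u z) e)) := by
          exact hm.symm
        rw [h7, ← hβ, h6, map_zero]
      · obtain ⟨w₀, rfl⟩ := surjective_stk α z v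
        obtain ⟨v₀, rfl⟩ := surjective_stk π₀ z w₀
        obtain ⟨q, rfl⟩ := unitSt_surjective u z (kernel a) v₀
        obtain ⟨e, he⟩ := hLdec _ ((exact_stk_kernel a (u z) (stk inc (u z) q)).2 ⟨q, rfl⟩)
        refine ⟨⟨_, q - stk τ (u z) e, by rw [map_sub, hτ]; exact he, rfl⟩, ?_⟩
        show stk α z (stk π₀ z (unitSt u z _ (q - stk τ (u z) e))) = _
        rw [map_sub, map_sub, map_sub, ← hβ, hαβ, sub_zero]
    exact ⟨Λ.subtype.comp (LinearEquiv.ofBijective _ hbij).symm.toLinearMap,
      fun v => (LinearEquiv.ofBijective _ hbij).apply_symm_apply v⟩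
  have hWq : Coh.IsQCoh (cokernel m₀) := (Coherent.isCoh_cokernel m₀ hP.1 hP).1
  obtain ⟨r, hr⟩ := hsplit _ β α w { exact := hexact, mono_f := inferInstance, epi_g := inferInstance } hWq hsec
  let s := (Scheme.Modules.pullbackPushforwardAdjunction u).homEquiv _ _ (cokernel.π m₀ ≫ r)
  have hs : ∀ z (e : St E (u z)), stk s (u z) (stk τ (u z) e) = 0 ↔ InMax p M (u z) (stk a (u z) e) := fun z e => by
    rw [stk_eq_zero_iff_of_adjoint, stk_comp, ← hβ, ← stk_comp, hr, stk_id, ← unitSt_eq_zero_iff_inMax p hψ hkψ hu z M]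
  have hdecomp : ∀ z (q : St (kernel a) (u z)), ∃ e, stk s (u z) (q - stk τ (u z) e) = 0 := fun z q => by
    obtain ⟨m, hm⟩ := unitSt_surjective u z M (stk r z (stk (cokernel.π m₀) z (unitSt u z _ q)))
    obtain ⟨e, rfl⟩ := surjective_stk a (u z) m
    refine ⟨e, (stk_eq_zero_iff_of_adjoint u z _ _).2 ?_⟩
    rw [map_sub, map_sub, stk_comp, stk_comp, ← hβ, ← hm, ← stk_comp, hr, stk_id, sub_eq_zero]
  let ι' := kernel.ι s ≫ kernel.ι a
  let π := cokernel.π ι'
  let φ : cokernel ι' ⟶ M := cokernel.desc ι' a (by rw [Category.assoc, kernel.condition, comp_zero])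
  have hker : ∀ x y, stk φ x y = 0 → ∃ w, y = rho p x t • w := by
    intro x y hy
    obtain ⟨z, rfl⟩ := hsurj x
    obtain ⟨e, rfl⟩ := surjective_stk π (u z) y
    rw [← stk_comp, cokernel.π_desc] at hy
    obtain ⟨q, rfl⟩ := (exact_stk_kernel a (u z) e).1 hy
    obtain ⟨e', he'⟩ := hdecomp z q
    obtain ⟨k, hk⟩ := (exact_stk_kernel s (u z) _).1 he'
    refine ⟨stk π (u z) e', ?_⟩
    have h0 : stk π (u z) (stk (kernel.ι a) (u z) (q - stk τ (u z) e')) = 0 := by
      rw [← hk, ← stk_comp (kernel.ι s), ← stk_comp, cokernel.condition, stk_zero]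
    rw [map_sub, map_sub, sub_eq_zero, hτ] at h0
    exact h0.trans ((stk π (u z)).map_smul _ _)
  refine ⟨s, φ, cokernel.π_desc _ _ _, fun x => ?_, hker⟩
  obtain ⟨z, rfl⟩ := hsurj x
  letI := baseMod p (cokernel ι') (u z)
  letI := baseMod p M (u z)
  refine free_of_extension ht htm hmt rfl (hM (u z)) (stkR p φ (u z)) ?_ (hker _) ?_
  · haveI : Epi φ := epi_of_epi_fac (cokernel.π_desc ι' a _)
    exact surjective_stk φ _
  · intro y hy
    obtain ⟨e, rfl⟩ := surjective_stk π (u z) y
    change rho p (u z) t • stk π (u z) e = 0 at hy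
    rw [← (stk π (u z)).map_smul] at hy
    obtain ⟨k, hk⟩ := exists_preimage_of_exact _ (ShortComplex.cokernelSequence_exact ι') (u z) _ hy
    change stk ι' (u z) k = _ at hk
    rw [stk_comp, ← hτ] at hk
    have h0 := (hs z e).1 (by rw [← injective_stk inc (u z) hk, ← stk_comp, kernel.condition, stk_zero])
    show InMax p M (u z) (stk φ (u z) (stk π (u z) e))
    rwa [← stk_comp, cokernel.π_desc]


end Groth.Agent.LciLift29
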