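import Groth.Agent.ArtFunLib.QuotLift.Algebra
import Groth.Agent.ArtFunLib.QuotLift.StalkUnit
import Groth.Agent.AssSch12.PullbackPoint
import Groth.Agent.CAlgH.RegImmStalk
import Groth.Agent.CurveRR24.Sky
import Groth.Prelude.Def_ClSub2

/-!
# Quotients cut out by regular sequences on stalks
-/

set_option autoImplicit false
set_option backward.isDefEq.respectTransparency false
set_option backward.isDefEq.respectTransparency.types false
set_option linter.style.haveILetI false

universe u

open CategoryTheory CategoryTheory.Limits AlgebraicGeometry RingTheory.Sequence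
open Groth.Agent.ArtFunLib.QuotLift

noncomputable section

namespace Groth.Agent.LciLift29

variable {X W : Scheme.{u}}

/-- The kernel of `q` is generated on stalks by a weakly regular sequence. -/
def LciQuot {E Q : X.Modules} (q : E ⟶ Q) : Prop :=
  ∀ x, ∃ rs : List (X.presheaf.stalk x), IsWeaklyRegular (St E x) rs ∧
    ∀ w, stk q x w = 0 ↔ w ∈ (Ideal.ofList rs • ⊤ : Submodule (X.presheaf.stalk x) (St E x))

/-- The kernels of the stalk maps are generated by weakly regular sequences. -/
def StkReg (f : W ⟶ X) : Prop :=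
  ∀ z, ∃ rs : List (X.presheaf.stalk (f z)),
    IsWeaklyRegular (X.presheaf.stalk (f z)) rs ∧ RingHom.ker (f.stalkMap z).hom = Ideal.ofList rs

theorem mem_smul_top_equiv {R N N' : Type u} [CommRing R] [AddCommGroup N] [Module R N] [AddCommGroup N'] [Module R N']
    (e : N ≃ₗ[R] N') (I : Ideal R) (v : N) :
    e v ∈ (I • ⊤ : Submodule R N') ↔ v ∈ (I • ⊤ : Submodule R N) := by
  constructor
  · intro h
    have h1 := map_smul_top_le e.symm.toLinearMap I h
    simpa using h1
  · exact fun h => map_smul_top_le e.toLinearMap I h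

/-- The linear equivalence of stalks of an isomorphism. -/
def stkEquiv {E E' : X.Modules} (a : E ≅ E') (x : X) : St E x ≃ₗ[X.presheaf.stalk x] St E' x :=
  ((DerSch.stalkFunctor X x).mapIso a).toLinearEquiv

theorem stkEquiv_apply {E E' : X.Modules} (a : E ≅ E') (x : X) (v : St E x) : stkEquiv a x v = stk a.hom x v :=
  rfl

theorem LciQuot.of_iso {E Q E' Q' : X.Modules} {q : E ⟶ Q} (h : LciQuot q) (a : E' ≅ E) (b : Q ≅ Q')
    {q' : E' ⟶ Q'} (hq : q' = a.hom ≫ q ≫ b.hom) : LciQuot q' := fun x => by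
  obtain ⟨rs, hreg, hker⟩ := h x
  refine ⟨rs, ((stkEquiv a x).isWeaklyRegular_congr rs).2 hreg, fun w => ?_⟩
  rw [← mem_smul_top_equiv (stkEquiv a x), stkEquiv_apply, ← hker, hq, stk_comp, stk_comp]
  exact ⟨fun h0 => injective_stk b.hom x (h0.trans (map_zero _).symm), fun h0 => by rw [h0, map_zero]⟩

theorem stkReg_of_regular {f : W ⟶ X} (hf : Mor2.IsRegularClosedImmersion f) : StkReg f := fun z => by
  haveI := hf.1
  obtain ⟨U, hU, hz, rs, hrs, hker⟩ := hf.2 z
  rw [Scheme.Hom.ker_apply] at hker
  let := X.presheaf.algebra_section_stalk ⟨f z, hz⟩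
  have := hU.isLocalization_stalk ⟨f z, hz⟩
  haveI : Module.Flat Γ(X, U) (X.presheaf.stalk (f z)) :=
    IsLocalization.flat _ (hU.primeIdealOf ⟨f z, hz⟩).asIdeal.primeCompl
  haveI : IsClosedImmersion (f ∣_ U) := IsZariskiLocalAtTarget.restrict ‹_› U
  refine ⟨rs.map (X.presheaf.germ U (f z) hz).hom,
    IsWeaklyRegular.of_flat (S := X.presheaf.stalk (f z)) hrs.toIsWeaklyRegular, ?_⟩
  rw [CAlgH.RegImmStalk.ker_stalkMap_eq f z hU hz, hker, Ideal.map_ofList]

theorem StkReg.precomp_iso {V : Scheme.{u}} {f : W ⟶ X} (h : StkReg f) (φ : V ⟶ W) [IsIso φ] :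
    StkReg (φ ≫ f) := fun v => by
  obtain ⟨rs, hreg, hker⟩ := h (φ v)
  refine ⟨rs, hreg, ?_⟩
  rw [Scheme.Hom.stalkMap_comp]
  exact (RingHom.ker_comp_of_injective _ (ConcreteCategory.bijective_of_isIso (φ.stalkMap v)).1).trans hker

theorem stkReg_comap (I : X.IdealSheafData) (hI : Mor2.IsRegularClosedImmersion I.subschemeι) {Z : Scheme.{u}}
    (e : Z ⟶ X) [Flat e] : StkReg (I.comap e).subschemeι := by
  rw [← Scheme.IdealSheafData.comapIso_hom_fst, ← pullbackSymmetry_hom_comp_snd, ← Category.assoc]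
  exact (stkReg_of_regular (CAlgH.RegImmStalk.isRegularClosedImmersion_baseChange I.subschemeι e hI)).precomp_iso _

/-- A surjection from a trivial module onto the direct image of the structure sheaf. -/
theorem lciQuot_push (f : W ⟶ X) [IsClosedImmersion f] (hf : StkReg f) {E : X.Modules}
    (θ : E ≅ Coh.structureModule X) (q : E ⟶ (Scheme.Modules.pushforward f).obj (Coh.structureModule W)) [Epi q] :
    LciQuot q := fun x => by
  let e1 : X.presheaf.stalk x ≃ₗ[X.presheaf.stalk x] St E x :=
    (LinearEquiv.ofBijective (LinearMap.toSpanSingleton (X.presheaf.stalk x) (St (Coh.structureModule X) x)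
      (AssSch12.unitOne x)) (AssSch12.bijective_smul_unitOne x)).trans (stkEquiv θ x).symm
  have hmem : ∀ (I : Ideal (X.presheaf.stalk x)) r,
      e1 r ∈ (I • ⊤ : Submodule (X.presheaf.stalk x) (St E x)) ↔ r ∈ I := fun I r => by
    rw [mem_smul_top_equiv e1, smul_eq_mul, Ideal.mul_top]
  have hr1 : ∀ r, e1 r = r • e1 1 := fun r => by rw [← map_smul, smul_eq_mul, mul_one]
  by_cases hx : x ∈ Set.range f.base
  · obtain ⟨z, rfl⟩ := hx
    obtain ⟨rs, hreg, hker⟩ := hf z
    let W₁ := (Scheme.Modules.pushforward f).obj (Coh.structureModule W)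
    let ε := (Scheme.Modules.pullbackPushforwardAdjunction f).counit.app (Coh.structureModule W)
    let T : St E (f z) → St (Coh.structureModule W) z := fun w => stk ε z (unitSt f z W₁ (stk q (f z) w))
    have hT : ∀ r w, T (r • w) = (f.stalkMap z).hom r • T w := fun r w => by
      show stk ε z (unitSt f z W₁ (stk q (f z) (r • w))) = _
      rw [map_smul, unitSt_smul, map_smul]
    have key : ∀ r, stk q (f z) (e1 r) = 0 ↔ r ∈ Ideal.ofList rs := fun r => by
      rw [← hker, RingHom.mem_ker]
      refine ⟨fun h => ?_, fun h => ?_⟩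
      · haveI := DCat.ClosedPush.isIso_counit f (Coh.structureModule W)
        obtain ⟨y, hy⟩ := surjective_stk ε z (AssSch12.unitOne z)
        obtain ⟨m, rfl⟩ := unitSt_surjective f z W₁ y
        obtain ⟨w, rfl⟩ := surjective_stk q (f z) m
        obtain ⟨s, rfl⟩ := e1.surjective w
        refine (AssSch12.bijective_smul_unitOne z).1 ?_
        show (f.stalkMap z).hom r • AssSch12.unitOne z = (0 : W.presheaf.stalk z) • AssSch12.unitOne z
        rw [zero_smul, ← hy]
        show (f.stalkMap z).hom r • T (e1 s) = 0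
        rw [hr1 s, hT, smul_comm, ← hT, ← hr1]
        show _ • stk ε z (unitSt f z W₁ (stk q (f z) (e1 r))) = 0
        rw [h, map_zero, map_zero, smul_zero]
      · rw [hr1, map_smul]
        exact DCat.ClosedPush.smul_stalk_push f _ z r h _
    refine ⟨rs, (e1.isWeaklyRegular_congr rs).1 hreg, fun w => ?_⟩
    obtain ⟨r, rfl⟩ := e1.surjective w
    rw [key, hmem]
  · haveI := DCat.ClosedPush.subsingleton_stalk_push f (Coh.structureModule W) x hx
    refine ⟨[1], ?_, fun w => ?_⟩
    · rw [isWeaklyRegular_cons_iff]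
      refine ⟨IsSMulRegular.one _, ?_⟩
      exact IsWeaklyRegular.nil _ _
    · obtain ⟨r, rfl⟩ := e1.surjective w
      rw [hmem, Ideal.ofList_singleton, Ideal.span_singleton_one]
      exact ⟨fun _ => Submodule.mem_top, fun _ => Subsingleton.elim _ _⟩

end Groth.Agent.LciLift29

end
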