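import Groth.Agent.LciLift29.HBAlg
import Groth.Agent.LciLift29.LciQuot
import Groth.Agent.ArtFunLib.QuotLift.Core

/-!
# Quotients with determinantal resolutions on stalks
-/

set_option autoImplicit false
set_option backward.isDefEq.respectTransparency false
set_option backward.isDefEq.respectTransparency.types false
set_option linter.style.haveILetI false
set_option linter.unusedSectionVars false

universe u

open CategoryTheory CategoryTheory.Limits AlgebraicGeometry Function IsLocalRing Matrix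
open Groth.Agent.ArtFunLib.QuotLift Groth.Agent.HilbertBurch29

noncomputable section

namespace Groth.Agent.LciLift29

/-- The kernel of `q` at `x` has a determinantal resolution of length one. -/
def HBAt {X : Scheme.{u}} {E Q : X.Modules} (q : E ⟶ Q) (x : X) : Prop :=
  ∃ (e₁ : X.presheaf.stalk x ≃ₗ[X.presheaf.stalk x] St E x) (r : ℕ)
    (φ : Matrix (Fin (r + 1)) (Fin r) (X.presheaf.stalk x)), Injective φ.mulVecLin ∧
      LinearMap.range φ.mulVecLin = LinearMap.ker (Fintype.linearCombination (X.presheaf.stalk x) (minors φ)) ∧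
      ∀ w, stk q x (e₁ w) = 0 ↔ w ∈ Ideal.span (Set.range (minors φ))

theorem HBAt.of_iso {X : Scheme.{u}} {E Q E' Q' : X.Modules} {q : E ⟶ Q} {x : X} (h : HBAt q x) (a : E' ≅ E)
    (b : Q ≅ Q') {q' : E' ⟶ Q'} (hq : q' = a.hom ≫ q ≫ b.hom) : HBAt q' x := by
  obtain ⟨e₁, r, φ, hinj, hex, hker⟩ := h
  refine ⟨e₁.trans (stkEquiv a x).symm, r, φ, hinj, hex, fun w => ?_⟩
  have h1 : stk a.hom x ((stkEquiv a x).symm (e₁ w)) = e₁ w := (stkEquiv a x).apply_symm_apply (e₁ w)
  rw [← hker, LinearEquiv.trans_apply, hq, stk_comp, stk_comp, h1]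
  exact ⟨fun h0 => injective_stk b.hom x (h0.trans (map_zero _).symm), fun h0 => by rw [h0, map_zero]⟩

variable {R R₀ : Type u} [CommRing R] [CommRing R₀] [IsLocalRing R] [IsArtinianRing R] {X X₀ : Scheme.{u}}
  (p : X ⟶ Spec (CommRingCat.of R)) {p₀ : X₀ ⟶ Spec (CommRingCat.of R₀)} {u : X₀ ⟶ X} [IsClosedImmersion u]
  {ψ : R →+* R₀} (hψ : Surjective ψ) (hkψ : RingHom.ker ψ = maximalIdeal R)
  (hu : IsPullback u p₀ p (Spec.map (CommRingCat.ofHom ψ)))

include hψ hkψ hu in
/-- The local hypothesis for a determinantal kernel on the closed fibre. -/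
theorem hloc_of_hb [IsLocallyNoetherian X] {t : R} (ht : t ≠ 0) (htm : t ∈ maximalIdeal R)
    (hmt : ∀ a ∈ maximalIdeal R, a * t = 0) {E M : X.Modules} (hE : StFree p E) (a : E ⟶ M) [Epi a]
    (hM : StFreeMod p t M) (z : X₀) (e₁ : X.presheaf.stalk (u z) ≃ₗ[X.presheaf.stalk (u z)] St E (u z))
    (h : HBAt ((Scheme.Modules.pullback u).map a) z) :
    ∃ L : Submodule (X.presheaf.stalk (u z)) (St E (u z)), (∀ l ∈ L, stk a (u z) l = 0) ∧
      (∀ q, stk a (u z) q = 0 → ∃ e, q - rho p (u z) t • e ∈ L) ∧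
        ∀ e, rho p (u z) t • e ∈ L → InMax p M (u z) (stk a (u z) e) := by
  obtain ⟨e₀, r, φ₀, hinj, hex, hker₀⟩ := h
  let F := Scheme.Modules.pullback u
  let σ := (u.stalkMap z).hom
  let O : Type u := X.presheaf.stalk (u z)
  letI := baseMod p E (u z)
  letI := baseMod p M (u z)
  letI : Algebra R (X.presheaf.stalk (u z)) := (rho p (u z)).toAlgebra
  haveI : IsScalarTower R (X.presheaf.stalk (u z)) (St E (u z)) := IsScalarTower.of_algebraMap_smul fun _ _ => rfl
  haveI : Module.Free R (St E (u z)) := hE _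
  haveI : Module.Free R (X.presheaf.stalk (u z)) := Module.Free.of_equiv (e₁.restrictScalars R).symm
  let a' : X.presheaf.stalk (u z) →ₗ[R] St M (u z) := (stkR p a (u z)).comp (e₁.restrictScalars R).toLinearMap
  have ha' : ∀ v, a' v = stk a (u z) (e₁ v) := fun _ => rfl
  obtain ⟨c, hc⟩ := e₀.surjective (unitSt u z E (e₁ 1))
  have hT : ∀ v, unitSt u z E (e₁ v) = e₀ (σ v * c) := fun v => by
    rw [show e₁ v = v • e₁ 1 by rw [← map_smul, smul_eq_mul, mul_one], unitSt_smul, ← hc, ← map_smul]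
    rfl
  have hcu : IsUnit c := by
    obtain ⟨m, hm⟩ := unitSt_surjective u z E (e₀ 1)
    obtain ⟨v, rfl⟩ := e₁.surjective m
    rw [hT] at hm
    exact IsUnit.of_mul_eq_one_right _ (e₀.injective hm)
  have hiff : ∀ v, stk (F.map a) z (unitSt u z E (e₁ v)) = 0 ↔ σ v ∈ Ideal.span (Set.range (minors φ₀)) := fun v => by
    rw [hT, hker₀, Ideal.mul_unit_mem_iff_mem _ hcu]
  have hkerσ : RingHom.ker σ = (maximalIdeal R).map (algebraMap R (X.presheaf.stalk (u z))) := by
    rw [← hkψ]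
    exact ker_stalkMap_of_isPullback hψ hu z
  obtain ⟨L, hL0, hLdec, hLt⟩ := exists_lift_hb ht htm hmt (hM (u z)) a'
    ((surjective_stk a (u z)).comp e₁.surjective)
    (fun r v hv => by
      rw [ha'] at hv ⊢
      rw [← smul_eq_mul, map_smul, map_smul, hv, smul_zero])
    σ (u.stalkMap_surjective z) hkerσ φ₀ hinj hex
    (fun i => by
      obtain ⟨v, hv⟩ := u.stalkMap_surjective z (minors φ₀ i)
      have h0 : stk (F.map a) z (unitSt u z E (e₁ v)) = 0 :=
        (hiff v).2 (by rw [show σ v = minors φ₀ i from hv]; exact Ideal.subset_span ⟨i, rfl⟩)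
      rw [unitSt_natural] at h0
      obtain ⟨g, hg, hga⟩ := ((unitSt_eq_zero_iff_inMax p hψ hkψ hu z M _).1 h0).exists_preimage p a
      obtain ⟨g', rfl⟩ := e₁.surjective g
      refine ⟨v - g', ?_, by rw [ha', map_sub, map_sub, hga, sub_self]⟩
      have h1 := (unitSt_eq_zero_iff_inMax p hψ hkψ hu z E _).2 hg
      rw [hT] at h1
      have h2 : σ g' * c = 0 := e₀.injective (h1.trans (map_zero _).symm)
      rw [map_sub, (hcu.mul_left_eq_zero).1 h2, sub_zero]
      exact hv)
    (fun q hq => (hiff q).1 (by rw [unitSt_natural, show stk a (u z) (e₁ q) = 0 from hq, map_zero]))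
  refine ⟨Submodule.map e₁.toLinearMap L, ?_, fun q hq => ?_, fun e he => ?_⟩
  · rintro _ ⟨l, hl, rfl⟩
    exact hL0 l hl
  · obtain ⟨v, rfl⟩ := e₁.surjective q
    obtain ⟨e, he⟩ := hLdec v hq
    refine ⟨e₁ e, v - t • e, he, ?_⟩
    show e₁ (v - t • e) = _
    rw [map_sub]
    exact congrArg (fun w => e₁ v - w) (LinearMap.map_smul_of_tower e₁.toLinearMap t e)
  · obtain ⟨v, rfl⟩ := e₁.surjective e
    obtain ⟨l, hl, hlv⟩ := he
    have h1 : e₁ (t • v) = rho p (u z) t • e₁ v := LinearMap.map_smul_of_tower e₁.toLinearMap t v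
    rw [← h1] at hlv
    exact hLt v (e₁.injective hlv ▸ hl)

end Groth.Agent.LciLift29

end
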