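import Groth.Agent.LciLift29.HomPush
import Groth.Agent.Coherent.Existence.HomAffine
import Groth.Agent.SerreDual.ExtLocFree
import Groth.Agent.Coherent.ModExt
import Groth.Agent.FlatMor12.FittSheaf
import Groth.Agent.EGA43.QcohFP
import Groth.Agent.ArtFunLib.QuotLift.StalkUnit
import Mathlib.Algebra.Module.FinitePresentation

/-!
# Locally split extensions split when the first cohomology of the internal hom vanishes
-/

set_option autoImplicit false
set_option backward.isDefEq.respectTransparency false
set_option backward.isDefEq.respectTransparency.types false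
set_option linter.style.haveILetI false
universe u

open CategoryTheory CategoryTheory.Limits AlgebraicGeometry TopologicalSpace Opposite Abelian
open Groth.Agent.Coherent Groth.Agent.Coherent.Existence Groth.Agent.PicLib
open Groth.Agent.ArtFunLib.QuotLift

noncomputable section

namespace Groth.Agent.LciLift29

/-- A section after localisation is a section after inverting one element. -/
theorem exists_section_away {R : Type u} [CommRing R] (S : Submonoid R) {M N M' N' : Type u} [AddCommGroup M] [Module R M]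
    [AddCommGroup N] [Module R N] [AddCommGroup M'] [Module R M'] [AddCommGroup N'] [Module R N']
    (gM : M →ₗ[R] M') [IsLocalizedModule S gM] (gN : N →ₗ[R] N') [IsLocalizedModule S gN]
    [Module.FinitePresentation R N] (g : M →ₗ[R] N) (g' : M' →ₗ[R] N') (hg : ∀ m, g' (gM m) = gN (g m))
    (σ : N' →ₗ[R] M') (hσ : ∀ n, g' (σ n) = n) : ∃ f ∈ S, ∃ τ : N →ₗ[R] M, ∀ n, g (τ n) = f • n := by
  classical
  obtain ⟨τ, s, hτ⟩ := Module.FinitePresentation.exists_lift_of_isLocalizedModule S gM (σ ∘ₗ gN)
  obtain ⟨G, hG⟩ := (inferInstance : Module.Finite R N).fg_top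
  have h1 : ∀ n, gN (g (τ n)) = gN ((s : R) • n) := fun n => by
    have := LinearMap.congr_fun hτ n
    simp only [LinearMap.comp_apply, LinearMap.smul_apply, Submonoid.smul_def] at this
    rw [← hg, this, map_smul, hσ, map_smul]
  choose c hc using fun n => (IsLocalizedModule.eq_iff_exists S gN).1 (h1 n)
  let C : S := ∏ n ∈ G, c n
  refine ⟨(C : R) * s, S.mul_mem C.2 s.2, (C : R) • τ, fun n => ?_⟩
  have h2 : ∀ n ∈ G, (C : R) • g (τ n) = (C : R) • ((s : R) • n) := fun n hn => by
    obtain ⟨d, hd⟩ : ∃ d : R, (C : R) = d * (c n : R) :=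
      ⟨((∏ m ∈ G.erase n, c m : S) : R), by rw [← Submonoid.coe_mul, Finset.prod_erase_mul G c hn]⟩
    have := hc n
    simp only [Submonoid.smul_def] at this
    rw [hd, mul_smul, mul_smul, this]
  have h3 : ((C : R) • g ∘ₗ τ) = (C : R) • ((s : R) • LinearMap.id) :=
    LinearMap.ext_on hG fun n hn => h2 n hn
  rw [LinearMap.smul_apply, map_smul, mul_smul]
  exact LinearMap.congr_fun h3 n

variable {X : Scheme.{u}} [IsLocallyNoetherian X]

/-- The internal hom out of a coherent module keeps a stalkwise split epimorphism an epimorphism. -/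
theorem epi_internalHomMap_of_stalk_split {K W : X.Modules} (hK : Coh.IsCoh K) [Coh.IsQCoh W] (g : W ⟶ K)
    (h : ∀ z, ∃ σ : St K z →ₗ[X.presheaf.stalk z] St W z, ∀ a, stk g z (σ a) = a) :
    Epi ((internalHomFunctor K).map g) := by
  haveI := hK.1
  refine epi_of_locally_surjective _ fun V ψ y hy => ?_
  obtain ⟨U, hU, hyU, hUV⟩ := exists_isAffineOpen_mem_and_subset (X := X) hy
  let R := Γ(X, U)
  letI := (X.presheaf.germ U y hyU).hom.toAlgebra
  letI := Module.compHom (K.presheaf.stalk y) (X.presheaf.germ U y hyU).hom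
  letI := Module.compHom (W.presheaf.stalk y) (X.presheaf.germ U y hyU).hom
  haveI : IsScalarTower R (X.presheaf.stalk y) (K.presheaf.stalk y) := IsScalarTower.of_algebraMap_smul fun _ _ => rfl
  haveI : IsScalarTower R (X.presheaf.stalk y) (W.presheaf.stalk y) := IsScalarTower.of_algebraMap_smul fun _ _ => rfl
  let S := (hU.primeIdealOf ⟨y, hyU⟩).asIdeal.primeCompl
  haveI : IsLocalization S (X.presheaf.stalk y) := hU.isLocalization_stalk ⟨y, hyU⟩
  haveI : IsNoetherianRing R := IsLocallyNoetherian.component_noetherian ⟨U, hU⟩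
  haveI : Module.Finite R Γ(K, U) := ((isCoh_iff_finite_sections K).1 hK).2 U hU
  haveI : Module.FinitePresentation R Γ(K, U) := Module.finitePresentation_of_finite _ _
  let gK : Γ(K, U) →ₗ[R] K.presheaf.stalk y :=
    { toFun := fun a => K.presheaf.germ U y hyU a
      map_add' := fun a b => map_add _ a b
      map_smul' := fun r a => QCohLoc.germ_smul' K hyU r a }
  let gW : Γ(W, U) →ₗ[R] W.presheaf.stalk y :=
    { toFun := fun a => W.presheaf.germ U y hyU a
      map_add' := fun a b => map_add _ a b
      map_smul' := fun r a => QCohLoc.germ_smul' W hyU r a }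
  haveI : IsLocalizedModule S gK := EGA43.QcohFP.isLocalizedModule_germ K hU hyU gK fun _ => rfl
  haveI : IsLocalizedModule S gW := EGA43.QcohFP.isLocalizedModule_germ W hU hyU gW fun _ => rfl
  let gU : Γ(W, U) →ₗ[R] Γ(K, U) :=
    { toFun := g.app U
      map_add' := fun a b => map_add _ a b
      map_smul' := fun r a => g.app_smul r a }
  let g' : W.presheaf.stalk y →ₗ[R] K.presheaf.stalk y :=
    { toFun := fun a => stk g y a
      map_add' := fun a b => map_add _ a b
      map_smul' := fun r a => (stk g y).map_smul (X.presheaf.germ U y hyU r) a }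
  obtain ⟨σ, hσ⟩ := h y
  let σ' : K.presheaf.stalk y →ₗ[R] W.presheaf.stalk y :=
    { toFun := fun a => σ a
      map_add' := fun a b => map_add σ a b
      map_smul' := fun r a => σ.map_smul (X.presheaf.germ U y hyU r) a }
  have hnat : ∀ m, g' (gW m) = gK (gU m) := fun m =>
    TopCat.Presheaf.stalkFunctor_map_germ_apply U y hyU g.mapPresheaf m
  obtain ⟨f, hf, τ, hτ⟩ := exists_section_away S gW gK gU g' hnat σ' hσ
  have hyf : y ∈ X.basicOpen f := by
    rw [X.mem_basicOpen f y hyU]
    exact (IsLocalization.map_units (X.presheaf.stalk y) (⟨f, hf⟩ : S) :)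
  refine ⟨X.basicOpen f, (X.basicOpen_le f).trans hUV, hyf, ?_⟩
  let Φ : Γ(internalHom K W, U) := (secLinEquiv (F := K) (N := W) hU).symm
    (τ ∘ₗ evLin (resM (internalHom K K) hUV ψ))
  have hΦ : ((internalHomFunctor K).map g).app U Φ = f • resM (internalHom K K) hUV ψ := by
    refine (secLinEquiv hU).injective (LinearMap.ext fun a => ?_)
    rw [map_smul, LinearMap.smul_apply, secLinEquiv_apply, secLinEquiv_apply]
    refine (ev_internalHomMap K g Φ U le_rfl a).trans ?_
    have h1 : ev (secHom Φ) U le_rfl a = τ (evLin (resM (internalHom K K) hUV ψ) a) :=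
      LinearMap.congr_fun ((secLinEquiv (F := K) (N := W) hU).apply_symm_apply _) a
    rw [h1]
    exact hτ _
  obtain ⟨v, hv⟩ := (isUnit_rmap f le_rfl : IsUnit (rmap (X.basicOpen_le f) f))
  refine ⟨(↑v⁻¹ : Γ(X, X.basicOpen f)) • resM (internalHom K W) (X.basicOpen_le f) Φ, ?_⟩
  rw [Scheme.Modules.Hom.app_smul]
  refine (congrArg (fun w => (↑v⁻¹ : Γ(X, X.basicOpen f)) • w)
    ((app_resM ((internalHomFunctor K).map g) (X.basicOpen_le f) Φ).trans
      ((congrArg (resM (internalHom K K) (X.basicOpen_le f)) hΦ).trans (resM_smul _ _ _ _)))).trans ?_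
  rw [smul_smul, ← hv, v.inv_mul, one_smul, resM_resM]
  rfl

/-- A stalkwise split extension of coherent modules splits if `H¹` of the internal hom vanishes. -/
theorem exists_retraction {Q W K : X.Modules} (hK : Coh.IsCoh K) [Coh.IsQCoh W] (β : Q ⟶ W) (α : W ⟶ K) (w : β ≫ α = 0)
    (hS : (ShortComplex.mk β α w).ShortExact)
    (hloc : ∀ z, ∃ σ : St K z →ₗ[X.presheaf.stalk z] St W z, ∀ a, stk α z (σ a) = a)
    (h1 : Subsingleton (Coh.HH X (internalHom K Q) 1)) : ∃ r, β ≫ r = 𝟙 _ := by
  let H := internalHomFunctor K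
  haveI := SerreDual.additive_internalHomFunctor K
  haveI := SerreDual.preservesFiniteLimits_internalHom K
  haveI : Mono β := hS.mono_f
  have hH : (ShortComplex.mk (H.map β) (H.map α) (by rw [← H.map_comp, w, H.map_zero])).ShortExact :=
    { exact := hS.exact.map_of_mono_of_preservesKernel H hS.mono_f inferInstance
      mono_f := inferInstanceAs (Mono (H.map β))
      epi_g := epi_internalHomMap_of_stalk_split hK α hloc }
  haveI := h1
  haveI : Subsingleton (Ext ((freeModOn X).obj ⊤) (internalHom K Q) 1) :=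
    (SerreDual.extHH (internalHom K Q) 1).toEquiv.subsingleton
  obtain ⟨x, hx⟩ := Ext.covariant_sequence_exact₃ ((freeModOn X).obj ⊤) hH (Ext.mk₀ (SerreDual.idHom K))
    (zero_add 1) (Subsingleton.elim (α := Ext ((freeModOn X).obj ⊤) (internalHom K Q) 1) _ _)
  obtain ⟨η, rfl⟩ := (Ext.mk₀_bijective _ _).2 x
  rw [Ext.mk₀_comp_mk₀] at hx
  have hη : η ≫ H.map α = SerreDual.idHom K := (Ext.mk₀_bijective _ _).1 hx
  obtain ⟨g, hg⟩ := (SerreDual.bijective_idHom_comp K W).2 η
  have hgα : g ≫ α = 𝟙 K := by
    refine (SerreDual.bijective_idHom_comp K K).1 ?_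
    show SerreDual.idHom K ≫ H.map (g ≫ α) = SerreDual.idHom K ≫ H.map (𝟙 K)
    rw [H.map_comp, ← Category.assoc, H.map_id, Category.comp_id]
    exact (congrArg (· ≫ H.map α) hg).trans hη
  let s := ShortComplex.Splitting.ofExactOfSection (ShortComplex.mk β α w) hS.exact g hgα hS.mono_f
  exact ⟨s.r, s.f_r⟩

end Groth.Agent.LciLift29
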