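import Groth.Agent.ArtFunLib.QuotLift.Algebra
import Groth.Agent.CAlgH3.ArtinRegular

/-!
# Lifting the generators of a complete intersection over an Artinian local ring
-/

set_option autoImplicit false

universe u

open IsLocalRing Submodule RingTheory.Sequence
open Groth.Agent.ArtFunLib.QuotLift

namespace Groth.Agent.LciLift29

variable {B O : Type u} [CommRing B] [IsLocalRing B] [IsArtinianRing B] [CommRing O] [Algebra B O]
  {G M : Type u} [AddCommGroup G] [Module B G] [Module O G] [IsScalarTower B O G] [Module.Free B G]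
  [AddCommGroup M] [Module B M] {t : B}

/-- A submodule of the kernel which covers it modulo `m` covers it modulo `t`. -/
theorem decomp_of_cover (hM : FreeMod (Ideal.span {t}) M) (a : G →ₗ[B] M) (ha : Function.Surjective a)
    (L : Submodule O G) (hL : ∀ l ∈ L, a l = 0)
    (hPL : ∀ q, a q = 0 → ∃ l ∈ L, q - l ∈ (maximalIdeal B • ⊤ : Submodule B G)) :
    ∀ q, a q = 0 → ∃ e, q - t • e ∈ L := by
  let P := LinearMap.ker a
  have htP : ∀ e, t • e ∈ P := fun e => by
    rw [LinearMap.mem_ker, map_smul, hM.smul_eq_zero t (Ideal.mem_span_singleton_self t)]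
  intro q hq
  let s : G →ₗ[B] P := LinearMap.codRestrict P (t • LinearMap.id) htP
  let Q : Submodule B G := L.restrictScalars B ⊔ LinearMap.range (t • LinearMap.id : G →ₗ[B] G)
  have htop : Q.comap P.subtype ⊔ maximalIdeal B • ⊤ = ⊤ := by
    refine Submodule.eq_top_iff'.2 fun p => ?_
    obtain ⟨l, hl, hd⟩ := hPL p.1 p.2
    have hlP : l ∈ P := hL l hl
    obtain ⟨e, he⟩ := exists_sub_mem (B := B) (p := p - ⟨l, hlP⟩) rfl hM a ha P.subtype P.subtype_injective
      (fun y => ⟨fun hy => ⟨⟨y, hy⟩, rfl⟩, fun ⟨z, hz⟩ => hz ▸ z.2⟩) s (fun _ => rfl) hd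
    refine mem_sup.2 ⟨⟨l, hlP⟩ + s e, ?_, p - ⟨l, hlP⟩ - s e, he, by abel⟩
    exact mem_sup.2 ⟨l, hl, t • e, ⟨e, rfl⟩, rfl⟩
  have h : (⟨q, hq⟩ : P) ∈ Q.comap P.subtype := by
    rw [CAlgH3.eq_top_of_sup_maximalIdeal _ htop]
    exact mem_top
  obtain ⟨l, hl, _, ⟨e, rfl⟩, hle⟩ := mem_sup.1 h
  refine ⟨e, ?_⟩
  have hq' : q - t • e = l := by
    rw [show q = P.subtype ⟨q, hq⟩ from rfl, ← hle]
    simp
  rw [hq']
  exact hl

/-- A submodule with flat quotient which covers the kernel modulo `m` controls the kernel. -/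
theorem lift_of_flat (ht : t ≠ 0) (hM : FreeMod (Ideal.span {t}) M) (a : G →ₗ[B] M)
    (ha : Function.Surjective a) (L : Submodule O G) [Module.Flat B (G ⧸ L)] (hL : ∀ l ∈ L, a l = 0)
    (hPL : ∀ q, a q = 0 → ∃ l ∈ L, q - l ∈ (maximalIdeal B • ⊤ : Submodule B G)) :
    (∀ q, a q = 0 → ∃ e, q - t • e ∈ L) ∧ ∀ e, t • e ∈ L → a e ∈ (maximalIdeal B • ⊤ : Submodule B M) := by
  refine ⟨decomp_of_cover hM a ha L hL hPL, fun e he => ?_⟩
  · haveI := CAlgH3.free_of_flat_artinian (A := B) (G ⧸ L)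
    let b := Module.Free.chooseBasis B (G ⧸ L)
    let π : G →ₗ[B] G ⧸ L := L.mkQ.restrictScalars B
    have h0 : t • π e = 0 := by
      rw [← map_smul]
      exact (Submodule.Quotient.mk_eq_zero L).2 he
    have h1 : π e ∈ (maximalIdeal B • ⊤ : Submodule B (G ⧸ L)) :=
      (CAlgH3.mem_smul_top_iff_repr b _ _).2 fun i => mem_maximalIdeal_of_mul_eq_zero ht (by
        have h' := DFunLike.congr_fun (congrArg b.repr h0) i
        simpa [smul_eq_mul] using h')
    obtain ⟨g, hg, hge⟩ : π e ∈ Submodule.map π (maximalIdeal B • ⊤ : Submodule B G) := by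
      rw [Submodule.map_smul'', Submodule.map_top, LinearMap.range_eq_top.2 (show Function.Surjective π from L.mkQ_surjective)]
      exact h1
    have h2 : e - g ∈ L := (Submodule.Quotient.eq L).1 hge.symm
    have h3 := hL _ h2
    rw [map_sub, sub_eq_zero] at h3
    rw [h3]
    exact map_smul_top_le a _ hg

/-- Lifts of a regular sequence generating the kernel modulo `m` give the required submodule. -/
theorem exists_lift_submodule [Module.Flat B G] (ht : t ≠ 0) (hM : FreeMod (Ideal.span {t}) M) (a : G →ₗ[B] M)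
    (ha : Function.Surjective a) (rs : List O) (hrs : ∀ r ∈ rs, ∀ g : G, a (r • g) = 0)
    (hreg : IsWeaklyRegular (G ⧸ ((maximalIdeal B).map (algebraMap B O) • ⊤ : Submodule O G)) rs)
    (hPL : ∀ q, a q = 0 → ∃ l ∈ (Ideal.ofList rs • ⊤ : Submodule O G),
      q - l ∈ (maximalIdeal B • ⊤ : Submodule B G)) :
    ∃ L : Submodule O G, (∀ l ∈ L, a l = 0) ∧ (∀ q, a q = 0 → ∃ e, q - t • e ∈ L) ∧
      ∀ e, t • e ∈ L → a e ∈ (maximalIdeal B • ⊤ : Submodule B M) := by
  haveI : Module.Flat B (G ⧸ (Ideal.ofList rs • ⊤ : Submodule O G)) :=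
    CAlgH3.flat_quotient_of_weaklyRegular rs G
      ((CAlgH3.weaklyRegular_iff_mod (maximalIdeal.isMaximal B).ne_top rs G).2 hreg)
  have hL : ∀ l ∈ (Ideal.ofList rs • ⊤ : Submodule O G), a l = 0 := fun l hl => by
    refine Submodule.smul_induction_on hl (fun r hr g _ => ?_) fun x y hx hy => by rw [map_add, hx, hy, add_zero]
    suffices h : ∀ g : G, a (r • g) = 0 from h g
    clear g ‹g ∈ (⊤ : Submodule O G)›
    induction hr using Submodule.span_induction with
    | mem r hr => exact hrs r hr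
    | zero => intro g; rw [zero_smul, map_zero]
    | add r s _ _ hr hs => intro g; rw [add_smul, map_add, hr g, hs g, add_zero]
    | smul c r _ hr => intro g; rw [smul_eq_mul, mul_comm, mul_smul]; exact hr _
  exact ⟨_, hL, lift_of_flat ht hM a ha _ hL hPL⟩

/-- Sequences with the same action are weakly regular simultaneously. -/
theorem isWeaklyRegular_congr_smul {R S : Type u} [CommRing R] [CommRing S] {N N' : Type u} [AddCommGroup N]
    [Module R N] [AddCommGroup N'] [Module S N'] (e : N ≃+ N') {rs : List R} {ss : List S}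
    (h : List.Forall₂ (fun r s => ∀ x, e (r • x) = s • e x) rs ss) :
    IsWeaklyRegular N rs ↔ IsWeaklyRegular N' ss :=
  AddEquiv.isWeaklyRegular_congr h

end Groth.Agent.LciLift29
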