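import Groth.Agent.LciLift29.ExtLocal
import Groth.Agent.LciLift29.HBQuot
import Groth.Agent.LciLift29.LciQuot
import Groth.Agent.LciLift29.LocSplit
import Groth.Agent.LciLift29.StalkLift

/-!
# Lifting locally complete intersection quotients of a cyclic module along surjections of Artinian algebras
-/

set_option autoImplicit false
set_option backward.isDefEq.respectTransparency false
set_option backward.isDefEq.respectTransparency.types false
set_option linter.style.haveILetI false
set_option linter.unusedSectionVars false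

universe u

open CategoryTheory CategoryTheory.Limits AlgebraicGeometry Function IsLocalRing ArtFun RingTheory.Sequence
open Groth.Agent.ArtFunLib Groth.Agent.ArtFunLib.QuotLift

noncomputable section

namespace Groth.Agent.LciLift29

/-- Quasi-coherent extensions split on stalks split. -/
def QSplits {Z : Scheme.{u}} (Q K : Z.Modules) : Prop :=
  ∀ (W : Z.Modules) (β : Q ⟶ W) (α : W ⟶ K) (w : β ≫ α = 0),
    (ShortComplex.mk β α w).ShortExact → Coh.IsQCoh W →
      (∀ z, ∃ σ : St K z →ₗ[Z.presheaf.stalk z] St W z, ∀ v, stk α z (σ v) = v) → ∃ r, β ≫ r = 𝟙 _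

theorem qSplits_of_HH {Z : Scheme.{u}} [IsLocallyNoetherian Z] {Q K : Z.Modules} (hK : Coh.IsCoh K)
    (h1 : Subsingleton (Coh.HH Z (Coherent.internalHom K Q) 1)) : QSplits Q K :=
  fun W β α w hS hW hloc => haveI := hW; exists_retraction hK β α w hS hloc h1

theorem QSplits.of_iso {Z : Scheme.{u}} {Q K Q' K' : Z.Modules} (h : QSplits Q K) (eQ : Q ≅ Q') (eK : K ≅ K') :
    QSplits Q' K' := by
  intro W β α w hS hW hloc
  have w' : (eQ.hom ≫ β) ≫ α ≫ eK.inv = 0 := by rw [Category.assoc, reassoc_of% w, zero_comp, comp_zero]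
  have hS' : (ShortComplex.mk (eQ.hom ≫ β) (α ≫ eK.inv) w').ShortExact :=
    ShortComplex.shortExact_of_iso (ShortComplex.isoMk (S₁ := ShortComplex.mk β α w)
      (S₂ := ShortComplex.mk (eQ.hom ≫ β) (α ≫ eK.inv) w') eQ.symm (Iso.refl _) eK.symm (by simp) (by simp)) hS
  obtain ⟨r, hr⟩ := h W _ _ w' hS' hW fun z => by
    obtain ⟨σ, hσ⟩ := hloc z
    refine ⟨σ.comp (stk eK.hom z), fun v => ?_⟩
    rw [LinearMap.comp_apply, stk_comp, hσ, ← stk_comp, Iso.hom_inv_id, stk_id]
  exact ⟨r ≫ eQ.hom, by rw [← cancel_epi eQ.hom, ← Category.assoc, ← Category.assoc, hr, Category.id_comp,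
    Category.comp_id]⟩

/-- All stalks are free of rank one. -/
def StUnit {Z : Scheme.{u}} (E : Z.Modules) : Prop :=
  ∀ z, Nonempty (Z.presheaf.stalk z ≃ₗ[Z.presheaf.stalk z] St E z)

/-- At every point the kernel is generated by a regular sequence or has a determinantal resolution. -/
def GoodQuot {Z : Scheme.{u}} {E Q : Z.Modules} (q : E ⟶ Q) : Prop :=
  ∀ z, (∃ rs : List (Z.presheaf.stalk z), IsWeaklyRegular (St E z) rs ∧
    ∀ w, stk q z w = 0 ↔ w ∈ (Ideal.ofList rs • ⊤ : Submodule (Z.presheaf.stalk z) (St E z))) ∨ HBAt q z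

theorem GoodQuot.of_lci {Z : Scheme.{u}} {E Q : Z.Modules} {q : E ⟶ Q} (h : LciQuot q) : GoodQuot q :=
  fun z => Or.inl (h z)

theorem GoodQuot.of_iso {Z : Scheme.{u}} {E Q E' Q' : Z.Modules} {q : E ⟶ Q} (h : GoodQuot q) (a : E' ≅ E)
    (b : Q ≅ Q') {q' : E' ⟶ Q'} (hq : q' = a.hom ≫ q ≫ b.hom) : GoodQuot q' := fun z => by
  rcases h z with ⟨rs, hreg, hker⟩ | hz
  · refine Or.inl ⟨rs, ((stkEquiv a z).isWeaklyRegular_congr rs).2 hreg, fun w => ?_⟩
    rw [← mem_smul_top_equiv (stkEquiv a z), stkEquiv_apply, ← hker, hq, stk_comp, stk_comp]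
    exact ⟨fun h0 => injective_stk b.hom z (h0.trans (map_zero _).symm), fun h0 => by rw [h0, map_zero]⟩
  · exact Or.inr (hz.of_iso a b hq)

section Stalk

variable {R R₀ : Type u} [CommRing R] [CommRing R₀] [IsLocalRing R] [IsArtinianRing R] {X X₀ : Scheme.{u}}
  (p : X ⟶ Spec (CommRingCat.of R)) {p₀ : X₀ ⟶ Spec (CommRingCat.of R₀)} {u : X₀ ⟶ X} [IsClosedImmersion u]
  {ψ : R →+* R₀} (hψ : Surjective ψ) (hkψ : RingHom.ker ψ = maximalIdeal R)
  (hu : IsPullback u p₀ p (Spec.map (CommRingCat.ofHom ψ))) (hsurj : Function.Surjective u)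

include hψ hkψ hu hsurj in
/-- The local hypothesis from the closed fibre. -/
theorem hloc_of_good [IsLocallyNoetherian X] {t : R} (ht : t ≠ 0) (htm : t ∈ maximalIdeal R)
    (hmt : ∀ a ∈ maximalIdeal R, a * t = 0) {E M : X.Modules} (hE : StFree p E) (a : E ⟶ M) [Epi a]
    (hM : StFreeMod p t M) (hcyc : StUnit E) (hlci : GoodQuot ((Scheme.Modules.pullback u).map a)) (x : X) :
    ∃ L : Submodule (X.presheaf.stalk x) (St E x), (∀ l ∈ L, stk a x l = 0) ∧
      (∀ q, stk a x q = 0 → ∃ e, q - rho p x t • e ∈ L) ∧ ∀ e, rho p x t • e ∈ L → InMax p M x (stk a x e) := by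
  obtain ⟨z, rfl⟩ := hsurj x
  obtain ⟨ε⟩ := hcyc (u z)
  obtain ⟨rs₀, hreg₀, hker₀⟩ | hz := hlci z
  swap
  · exact hloc_of_hb p hψ hkψ hu ht htm hmt hE a hM z ε hz
  obtain ⟨e₁, he₁⟩ : ∃ e₁ : St E (u z), ∀ v, ∃ r : X.presheaf.stalk (u z), r • e₁ = v :=
    ⟨ε 1, fun v => ⟨ε.symm v, by rw [← map_smul, smul_eq_mul, mul_one, ε.apply_symm_apply]⟩⟩
  let F := Scheme.Modules.pullback u
  let σ := (u.stalkMap z).hom
  haveI : RingHomSurjective σ := ⟨u.stalkMap_surjective z⟩
  let T : St E (u z) →ₛₗ[σ] St (F.obj E) z :=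
    { toFun := unitSt u z E
      map_add' := fun a b => map_add _ a b
      map_smul' := fun r m => unitSt_smul u z E r m }
  have hT : ∀ m, T m = unitSt u z E m := fun _ => rfl
  letI := baseMod p E (u z)
  letI := baseMod p M (u z)
  haveI : Module.Free R (St E (u z)) := hE _
  letI : Algebra R (X.presheaf.stalk (u z)) := (rho p (u z)).toAlgebra
  haveI : IsScalarTower R (X.presheaf.stalk (u z)) (St E (u z)) := IsScalarTower.of_algebraMap_smul fun _ _ => rfl
  -- lifts of the regular sequence killing `M`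
  have hlift : ∀ s ∈ rs₀, ∃ r, (∀ v, s • T v = σ r • T v) ∧ ∀ g : St E (u z), stk a (u z) (r • g) = 0 := by
    intro s hs
    obtain ⟨r₀, hr₀⟩ := u.stalkMap_surjective z s
    have hs0 : stk (F.map a) z (s • T e₁) = 0 :=
      (hker₀ _).2 (Submodule.smul_mem_smul (Ideal.subset_span hs) Submodule.mem_top)
    rw [← hr₀, ← T.map_smulₛₗ, hT, unitSt_natural] at hs0
    obtain ⟨g, hg, hga⟩ :=
      ((unitSt_eq_zero_iff_inMax p hψ hkψ hu z M _).1 hs0).exists_preimage p a
    obtain ⟨r, hr⟩ := he₁ (r₀ • e₁ - g)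
    refine ⟨r, fun v => ?_, fun v => ?_⟩
    · obtain ⟨c, rfl⟩ := he₁ v
      have h1 : σ r • T e₁ = s • T e₁ := by
        rw [← T.map_smulₛₗ, hr, map_sub, hT g, (unitSt_eq_zero_iff_inMax p hψ hkψ hu z E g).2 hg, sub_zero,
          T.map_smulₛₗ, hr₀]
      rw [T.map_smulₛₗ, smul_comm s, ← h1, smul_comm]
    · obtain ⟨c, rfl⟩ := he₁ v
      rw [smul_comm, hr, map_smul, map_sub, hga, sub_self, smul_zero]
  choose f hfT hfa using hlift
  let rs : List (X.presheaf.stalk (u z)) := rs₀.pmap f fun _ => id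
  have hkerT : ∀ m, m ∈ ((maximalIdeal R).map (algebraMap R (X.presheaf.stalk (u z))) • ⊤ :
      Submodule (X.presheaf.stalk (u z)) (St E (u z))) ↔ T m = 0 := fun m => by
    rw [hT, unitSt_eq_zero_iff_inMax p hψ hkψ hu z E m]
    exact mem_map_smul_iff p E (u z) (maximalIdeal R) m
  let Tq := Submodule.liftQ _ T fun m hm => LinearMap.mem_ker.2 ((hkerT m).1 hm)
  have hTq : Bijective Tq := by
    refine ⟨(injective_iff_map_eq_zero Tq).2 fun w hw => ?_, fun v => ?_⟩
    · obtain ⟨m, rfl⟩ := Submodule.Quotient.mk_surjective _ w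
      exact (Submodule.Quotient.mk_eq_zero _).2 ((hkerT m).2 hw)
    · obtain ⟨m, rfl⟩ := unitSt_surjective u z E v
      exact ⟨Submodule.Quotient.mk m, rfl⟩
  have hreg : IsWeaklyRegular (St E (u z) ⧸ ((maximalIdeal R).map (algebraMap R (X.presheaf.stalk (u z))) • ⊤ :
      Submodule (X.presheaf.stalk (u z)) (St E (u z)))) rs := by
    refine (isWeaklyRegular_congr_smul (AddEquiv.ofBijective Tq.toAddMonoidHom hTq) ?_).2 hreg₀
    rw [List.forall₂_iff_get]
    refine ⟨List.length_pmap, fun i h h' w => ?_⟩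
    obtain ⟨m, rfl⟩ := Submodule.Quotient.mk_surjective _ w
    simp only [rs, List.get_eq_getElem, List.getElem_pmap]
    show T (f _ _ • m) = _ • T m
    rw [T.map_smulₛₗ, ← hfT]
  refine exists_lift_submodule ht (hM (u z)) (stkR p a (u z)) (surjective_stk a _) rs ?_ hreg fun q hq => ?_
  · intro r hr g
    obtain ⟨s, hs, rfl⟩ := List.mem_pmap.1 hr
    exact hfa s hs g
  · have h0 : T q ∈ (Ideal.ofList rs₀ • ⊤ : Submodule (X₀.presheaf.stalk z) (St (F.obj E) z)) :=
      (hker₀ _).1 (by rw [hT, unitSt_natural, show stk a (u z) q = 0 from hq, map_zero])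
    have hle : Ideal.ofList rs₀ • ⊤ ≤
        Submodule.map T (Ideal.ofList rs • ⊤ : Submodule (X.presheaf.stalk (u z)) (St E (u z))) := by
      refine Submodule.smul_le.2 fun r hr v hv => ?_
      suffices h : ∀ v, r • v ∈ Submodule.map T (Ideal.ofList rs • ⊤ :
          Submodule (X.presheaf.stalk (u z)) (St E (u z))) from h v
      clear hv v
      induction hr using Submodule.span_induction with
      | mem s hs =>
        intro v
        obtain ⟨m, rfl⟩ := unitSt_surjective u z E v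
        exact ⟨f s hs • m, Submodule.smul_mem_smul (Ideal.subset_span (List.mem_pmap.2 ⟨s, hs, rfl⟩))
          Submodule.mem_top, (T.map_smulₛₗ _ _).trans (hfT s hs m).symm⟩
      | zero => intro v; rw [zero_smul]; exact Submodule.zero_mem _
      | add r s _ _ hr hs => intro v; rw [add_smul]; exact Submodule.add_mem _ (hr v) (hs v)
      | smul c r _ hr => intro v; rw [smul_eq_mul, mul_smul]; exact Submodule.smul_mem _ _ (hr v)
    obtain ⟨l, hl, hlq⟩ := hle h0
    refine ⟨l, hl, (unitSt_eq_zero_iff_inMax p hψ hkψ hu z E _).1 ?_⟩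
    rw [← hT, map_sub, hlq, sub_self]

end Stalk

section Family

variable {k : Type u} [Field k] {X : Scheme.{u}} (x : X ⟶ Spec (CommRingCat.of k)) [LocallyOfFiniteType x] (E : X.Modules)

/-- The hypotheses on the closed fibre. -/
def GoodFibre (K₀ : Subobject (FGA.ET x E (TA (Art.base k k)))) : Prop :=
  QSplits (cokernel K₀.arrow) (K₀ : (PicF.XT x (TA (Art.base k k))).Modules) ∧ GoodQuot (cokernel.π K₀.arrow)

variable (hcyc : ∀ C : Art k k, StUnit (FGA.ET x E (TA C)))

include hcyc in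
/-- A family extends along a small extension. -/
theorem exists_extension_small_lci (hE : Coh.IsCoh E) {B A : Art k k} (p : B ⟶ A) (hp : Function.Surjective p)
    (K : Subobject (FGA.ET x E (TA A))) {t : B} (ht0 : t ≠ 0) (htm : t ∈ maximalIdeal B)
    (hmt : ∀ a ∈ maximalIdeal B, a * t = 0) (ht : RingHom.ker p.toAlgHom.toRingHom = Ideal.span {t})
    (hK : Coh.IsCoh (cokernel K.arrow) ∧ FlatMod.IsFlatOver (PicF.XTproj x (TA A)) (cokernel K.arrow))
    (hgood : GoodFibre x E (fibreK x E K)) :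
    ∃ K' : FGA.QuotSet x E (TA B), FGA.quotPull x E (gA p) K'.1 = K := by
  let π := PicF.XTproj x (TA B)
  let σ := PicF.XTmap x (gA p)
  let u := PicF.XTmap x (gA (Art.toBase B))
  let a := quotA x E p K
  haveI hσc : IsClosedImmersion σ := isClosedImmersion_XTmap x p hp
  haveI huc : IsClosedImmersion u := isClosedImmersion_XTmap x _ (surjective_toBase B)
  haveI : Epi a := epi_quotA x E p hp K
  obtain ⟨⟨eK⟩, ⟨eQ⟩⟩ := exists_fibre_iso x E p hp K
  have hM := stFreeMod_pushQ x E p hp K ht hK.2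
  haveI : IsLocallyNoetherian (PicF.XT x (TA B)) := Quot8.isLocallyNoetherian_XT x
  haveI : IsLocallyNoetherian (PicF.XT x (TA (Art.base k k))) := Quot8.isLocallyNoetherian_XT x
  haveI : IsLocallyNoetherian (PicF.XT x (TA A)) := Quot8.isLocallyNoetherian_XT x
  have hEB := isCoh_ET x E hE B
  have hMc : Coh.IsCoh (pushQ x E p K) := Coherent.Existence.isCoh_push_of_isProper σ hK.1
  have hPc : Coh.IsCoh (kernel a) := Coherent.isCoh_kernel a hEB hMc.1
  -- the closed fibre of the quotient is locally good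
  have hlci : GoodQuot ((Scheme.Modules.pullback u).map a) := by
    have h : fibreK x E K = kernelSubobject (Quot8.bcQ x E (gA (Art.toBase B)) a) := by
      rw [← Quot8.quotPull_kernelSubobject]
      conv_lhs => rw [← quotPull_kernel_quotA x E p hp K]
      exact fibreK_pull x E p _
    haveI : Epi (Quot8.bcQ x E (gA (Art.toBase B)) a) := Quot8.epi_bcQ x E (gA (Art.toBase B)) a
    obtain ⟨i, hi⟩ := Quot8.exists_cokernel_kernelSubobject_iso (Quot8.bcQ x E (gA (Art.toBase B)) a)
    have h2 := hgood.2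
    rw [h] at h2
    refine h2.of_iso (FGA.ETiso x E (gA (Art.toBase B))) i ?_
    rw [hi, Quot8.bcQ_eq, Iso.hom_inv_id_assoc]
  obtain ⟨s, φ, hφ, hfree, hker⟩ := exists_extension_of_local (R := B) π (surjective_toBase B) (ker_toBase B)
    (isPullback_XT x (Art.toBase B)) (surjective_XTmap x _) ht0 htm hmt (stFree_ET x E B) a hM
    (ZClosLib.isCoh_pullback u _ hPc)
    (hloc_of_good π (surjective_toBase B) (ker_toBase B) (isPullback_XT x (Art.toBase B)) (surjective_XTmap x _)
      ht0 htm hmt (stFree_ET x E B) a hM (hcyc B) hlci)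
    (hgood.1.of_iso eQ eK)
  have hK'c : Coh.IsCoh (kernel s) :=
    Coherent.isCoh_kernel s hPc (Coherent.Existence.isCoh_push_of_isProper u (ZClosLib.isCoh_pullback u _ hMc)).1
  let q := cokernel.π (kernel.ι s ≫ kernel.ι a)
  refine ⟨Quot8.mkQuot x E q (Coherent.isCoh_cokernel _ hK'c.1 hEB) (flat_of_stFree x hfree), ?_⟩
  rw [Quot8.mkQuot_val, Quot8.quotPull_kernelSubobject]
  let ad := Scheme.Modules.pullbackPushforwardAdjunction σ
  haveI := DCat.ClosedPush.isIso_counit σ (cokernel K.arrow)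
  let i := (Scheme.Modules.pullback σ).map φ ≫ ad.counit.app _
  have hi : Quot8.bcQ x E (gA p) q ≫ i = cokernel.π K.arrow := by
    rw [Quot8.bcQ_eq, Category.assoc, ← Functor.map_comp_assoc, hφ, map_quotA_counit, Iso.inv_hom_id_assoc]
  haveI : Epi i := epi_of_epi_fac hi
  haveI : Mono i := Coherent.CohBC.mono_of_injective_stalks _ fun z => by
    refine (injective_iff_map_eq_zero (stk i z)).2 fun v hv => ?_
    obtain ⟨y, rfl⟩ := unitSt_surjective σ z _ v
    rw [stk_comp, unitSt_natural] at hv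
    replace hv := (unitSt_eq_zero_iff σ z _ _).1 (injective_stk (ad.counit.app _) z (hv.trans (map_zero _).symm))
    have h0 : stk φ (σ z) y = 0 := Submodule.smul_induction_on hv
      (fun r hr s _ => DCat.ClosedPush.smul_stalk_push σ _ z r hr s) fun a b ha hb => by rw [ha, hb, add_zero]
    obtain ⟨w, rfl⟩ := hker _ _ h0
    rw [unitSt_eq_zero_iff_base π hp (isPullback_XT x p), ht]
    letI := baseMod π (cokernel (kernel.ι s ≫ kernel.ι a)) (σ z)
    exact Submodule.smul_mem_smul (r := t) (Ideal.mem_span_singleton_self t) (Submodule.mem_top (x := w))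
  haveI : IsIso i := isIso_of_mono_of_epi i
  exact (kernelSubobject_eq_of_comp_eq i hi).trans (Quot8.kernelSubobject_cokernel K)

include hcyc in
/-- Families extend along surjections. -/
theorem exists_extension_surjective_lci (hE : Coh.IsCoh E) {B A : Art k k} (p : B ⟶ A) (hp : Function.Surjective p)
    (K : FGA.QuotSet x E (TA A)) (hgood : GoodFibre x E (fibreK x E K.1)) :
    ∃ K' : FGA.QuotSet x E (TA B), FGA.quotPull x E (gA p) K'.1 = K.1 := by
  revert K
  refine surj_induction (fun A B (p : B ⟶ A) => ∀ K : FGA.QuotSet x E (TA A), GoodFibre x E (fibreK x E K.1) →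
      ∃ K' : FGA.QuotSet x E (TA B), FGA.quotPull x E (gA p) K'.1 = K.1) ?_ ?_ ?_ p hp
  · intro _ _ e he K _
    obtain ⟨K', hK'⟩ : ∃ K' : FGA.QuotSet x E (TA _), K'.1 = FGA.quotPull x E (gA (inv e)) K.1 :=
      exists_quotSet_pull x E (inv e) K
    exact ⟨K', by rw [hK', ← Quot8.quotPull_comp, ← gA_comp, IsIso.inv_hom_id, gA_id, Quot8.quotPull_id]⟩
  · intro _ _ q hq K hK
    obtain ⟨t, ht0, htm, hmt, ht⟩ := smallExt_generator hq
    exact exists_extension_small_lci x E hcyc hE q hq.1 K.1 ht0 htm hmt ht K.2 hK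
  · intro _ _ _ q r hq hr ihq ihr K hK
    obtain ⟨K₁, hK₁⟩ := ihr K hK
    rw [← hK₁, fibreK_pull] at hK
    obtain ⟨K', hK'⟩ := ihq K₁ hK
    exact ⟨K', by rw [gA_comp, Quot8.quotPull_comp, hK', hK₁]⟩

end Family

end Groth.Agent.LciLift29

end
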