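import Groth.Agent.LciLift29.Hilb

/-!
# Extending a flat closed subscheme with good closed fibre along a small extension of Artinian rings
-/

set_option autoImplicit false
set_option backward.isDefEq.respectTransparency false
set_option backward.isDefEq.respectTransparency.types false
set_option linter.style.haveILetI false
set_option linter.unusedSectionVars false
set_option maxHeartbeats 1000000

universe u

open CategoryTheory CategoryTheory.Limits AlgebraicGeometry Function IsLocalRing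
open Groth.Agent.ArtFunLib Groth.Agent.ArtFunLib.QuotLift

noncomputable section

namespace Groth.Agent.LciLift29

/-- The trivialisation of the inverse image of the structure sheaf. -/
abbrev pullθ {Y Y' : Scheme.{u}} (h : Y' ⟶ Y) :
    (Scheme.Modules.pullback h).obj (Coh.structureModule Y) ≅ Coh.structureModule Y' :=
  PicLoc.pullbackStructureIso h

theorem kernelSubobject_pullback_qI {Y Y' : Scheme.{u}} [IsLocallyNoetherian Y] [IsLocallyNoetherian Y'] (h : Y' ⟶ Y)
    {Q : Y.Modules} (q : Coh.structureModule Y ⟶ Q) [Epi q] (hQ : Coh.IsCoh Q) (I : Y.IdealSheafData)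
    (hq : kernelSubobject q = Quot8.KI (Iso.refl _) I) :
    kernelSubobject ((Scheme.Modules.pullback h).map q) = Quot8.KI (pullθ h) (I.comap h) := by
  haveI := (Coherent.isCoh_structureModule Y').1
  let F := Scheme.Modules.pullback h
  let θ' := F.mapIso (Iso.refl (Coh.structureModule Y)) ≪≫ PicLoc.pullbackStructureIso h
  haveI : Epi (F.map q) := F.map_epi q
  obtain ⟨J₀, hJ₀⟩ := Quot8.exists_eq_KI θ' (F.map q) (ZClosLib.isCoh_pullback h _ hQ)
  have hker : imageSubobject (F.map (Quot8.KI (Iso.refl _) I).arrow) = kernelSubobject (F.map q) := by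
    rw [← hq]
    let S₀ : ShortComplex Y.Modules :=
      ShortComplex.mk (kernelSubobject q).arrow q (kernelSubobject_arrow_comp q)
    have h0 : S₀.Exact := (ShortComplex.exact_iff_of_iso
      (ShortComplex.isoMk (S₁ := S₀) (S₂ := ShortComplex.kernelSequence q) (kernelSubobjectIso q) (Iso.refl _)
        (Iso.refl _) (by simp [S₀]) (by simp [S₀]))).2 (ShortComplex.kernelSequence_exact q)
    haveI : Epi S₀.g := ‹Epi q›
    exact (ShortComplex.exact_iff_image_eq_kernel (S₀.map F)).1
      (h0.map_of_epi_of_preservesCokernel F ‹Epi q› inferInstance)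
  have hJ : J₀ = I.comap h := by
    refine le_antisymm ?_ ?_
    · have h1 := (Quot8.image_pullback_KI_le_iff (Iso.refl _) h I (I.comap h)).2 le_rfl
      rw [hker, hJ₀] at h1
      exact (Quot8.KI_le_iff θ' _ _).1 h1
    · refine (Quot8.image_pullback_KI_le_iff (Iso.refl _) h I J₀).1 ?_
      rw [hker, hJ₀]
  rw [hJ₀, hJ]
  exact Quot8.KI_congr (pullθ h) θ' _

theorem exists_quot_iso {Z : Scheme.{u}} {M Q : Z.Modules} (q : M ⟶ Q) [Epi q] (θ : M ≅ Coh.structureModule Z)
    (I : Z.IdealSheafData) (hq : kernelSubobject q = Quot8.KI θ I) :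
    (∃ i : Q ≅ ClSub.quotMod I, q ≫ i.hom = Quot8.qI θ I) ∧ Nonempty (kernel q ≅ ClSub.idealMod I) := by
  have h1 : kernel.ι (Quot8.qI θ I) ≫ q = 0 := by
    rw [← kernelSubobject_arrow' (Quot8.qI θ I), Category.assoc,
      ← Subobject.ofLE_arrow (show kernelSubobject (Quot8.qI θ I) ≤ kernelSubobject q from hq.ge), Category.assoc,
      kernelSubobject_arrow_comp, comp_zero, comp_zero]
  have h2 : kernel.ι q ≫ Quot8.qI θ I = 0 := by
    rw [← kernelSubobject_arrow' q, Category.assoc,
      ← Subobject.ofLE_arrow (show kernelSubobject q ≤ kernelSubobject (Quot8.qI θ I) from hq.le), Category.assoc,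
      kernelSubobject_arrow_comp, comp_zero, comp_zero]
  let i : Q ≅ ClSub.quotMod I :=
    { hom := Abelian.epiDesc q (Quot8.qI θ I) h2
      inv := Abelian.epiDesc (Quot8.qI θ I) q h1
      hom_inv_id := by rw [← cancel_epi q, ← Category.assoc, Abelian.comp_epiDesc, Abelian.comp_epiDesc, Category.comp_id]
      inv_hom_id := by
        rw [← cancel_epi (Quot8.qI θ I), ← Category.assoc, Abelian.comp_epiDesc, Abelian.comp_epiDesc, Category.comp_id] }
  exact ⟨⟨i, Abelian.comp_epiDesc _ _ _⟩,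
    ⟨kernel.mapIso q (ClSub.toSubscheme I) θ i (by rw [Abelian.comp_epiDesc])⟩⟩

theorem qSplits_of_ext {Z : Scheme.{u}} [HasExt.{u} Z.Modules] {Q K : Z.Modules}
    (h : Subsingleton (Abelian.Ext.{u} K Q 1)) : QSplits Q K := by
  intro W β α w hS _ _
  obtain ⟨x, hx⟩ := Abelian.Ext.contravariant_sequence_exact₁ hS Q (Abelian.Ext.mk₀ (𝟙 Q)) (show 1 + 0 = 1 from rfl)
    (@Subsingleton.elim _ h _ _)
  refine ⟨Abelian.Ext.homEquiv₀ x, (Abelian.Ext.mk₀_bijective _ _).1 ?_⟩
  rw [← Abelian.Ext.mk₀_comp_mk₀, ← hx, Abelian.Ext.mk₀_homEquiv₀_apply]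

variable {R R₁ k : Type u} [CommRing R] [IsLocalRing R] [IsArtinianRing R] [CommRing R₁] [IsLocalRing R₁]
  [IsArtinianRing R₁] [Field k] {X X₁ X₀ : Scheme.{u}} [IsLocallyNoetherian X] [IsLocallyNoetherian X₁]
  [IsLocallyNoetherian X₀] (p : X ⟶ Spec (CommRingCat.of R)) [Flat p] {p₁ : X₁ ⟶ Spec (CommRingCat.of R₁)}
  {p₀ : X₀ ⟶ Spec (CommRingCat.of k)} {σ : X₁ ⟶ X} {u₁ : X₀ ⟶ X₁} {φ : R →+* R₁} {ψ₁ : R₁ →+* k}

/-- A flat closed subscheme extends along a small extension. -/
theorem exists_flat_extension (hφ : Surjective φ) (hψ₁ : Surjective ψ₁)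
    (hker : RingHom.ker (ψ₁.comp φ) = maximalIdeal R) {t : R} (ht0 : t ≠ 0) (htm : t ∈ maximalIdeal R)
    (hmt : ∀ a ∈ maximalIdeal R, a * t = 0) (ht : RingHom.ker φ = Ideal.span {t})
    (hσ : IsPullback σ p₁ p (Spec.map (CommRingCat.ofHom φ)))
    (hu₁ : IsPullback u₁ p₀ p₁ (Spec.map (CommRingCat.ofHom ψ₁)))
    (I₁ : X₁.IdealSheafData) [Flat (I₁.subschemeι ≫ p₁)] (I₀ : X₀.IdealSheafData) (hI₀ : I₁.comap u₁ = I₀)
    (hgood : ∀ θ : Coh.structureModule X₀ ≅ Coh.structureModule X₀, GoodQuot (Quot8.qI θ I₀))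
    (hsplit : QSplits (ClSub.quotMod I₀) (ClSub.idealMod I₀)) :
    ∃ J : X.IdealSheafData, J.comap σ = I₁ ∧ Flat (J.subschemeι ≫ p) := by
  let u := u₁ ≫ σ
  let ψ := ψ₁.comp φ
  have hψ : Surjective ψ := hψ₁.comp hφ
  haveI : IsClosedImmersion (Spec.map (CommRingCat.ofHom φ)) := IsClosedImmersion.spec_of_surjective _ hφ
  haveI : IsClosedImmersion (Spec.map (CommRingCat.ofHom ψ₁)) := IsClosedImmersion.spec_of_surjective _ hψ₁
  haveI : AlgebraicGeometry.Surjective (Spec.map (CommRingCat.ofHom φ)) :=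
    ⟨fun _ => ⟨IsLocalRing.closedPoint R₁, Subsingleton.elim (α := PrimeSpectrum R) _ _⟩⟩
  haveI : AlgebraicGeometry.Surjective (Spec.map (CommRingCat.ofHom ψ₁)) :=
    ⟨fun _ => ⟨(default : PrimeSpectrum k), Subsingleton.elim (α := PrimeSpectrum R₁) _ _⟩⟩
  haveI : IsClosedImmersion σ := MorphismProperty.of_isPullback (P := @IsClosedImmersion) hσ.flip inferInstance
  haveI : IsClosedImmersion u₁ := MorphismProperty.of_isPullback (P := @IsClosedImmersion) hu₁.flip inferInstance
  haveI hσs : AlgebraicGeometry.Surjective σ := MorphismProperty.of_isPullback (P := @AlgebraicGeometry.Surjective) hσ.flip inferInstance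
  haveI : AlgebraicGeometry.Surjective u₁ := MorphismProperty.of_isPullback (P := @AlgebraicGeometry.Surjective) hu₁.flip inferInstance
  haveI : IsClosedImmersion u := inferInstanceAs (IsClosedImmersion (_ ≫ _))
  haveI : AlgebraicGeometry.Surjective u := inferInstanceAs (AlgebraicGeometry.Surjective (u₁ ≫ σ))
  have hu : IsPullback u p₀ p (Spec.map (CommRingCat.ofHom ψ)) := by
    have h := hu₁.paste_horiz hσ
    rwa [← Spec.map_comp, ← CommRingCat.ofHom_comp] at h
  let O := Coh.structureModule X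
  have hO : Coh.IsCoh O := Coherent.isCoh_structureModule X
  haveI := hO.1
  let ad := Scheme.Modules.pullbackPushforwardAdjunction σ
  let Q₁ := ClSub.quotMod I₁
  let q₁ := Quot8.qI (pullθ σ) I₁
  let M := (Scheme.Modules.pushforward σ).obj Q₁
  let a : O ⟶ M := ad.homEquiv _ _ q₁
  haveI : Epi a := epi_adjoint σ hσs.surj q₁
  have ha : (Scheme.Modules.pullback σ).map a ≫ ad.counit.app Q₁ = q₁ :=
    (ad.homEquiv_counit _ _ _).symm.trans ((ad.homEquiv _ _).symm_apply_apply _)
  haveI := DCat.ClosedPush.isIso_counit σ Q₁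
  have hQ₁ : Coh.IsCoh Q₁ := CurveRR24.isCoh_quotMod _
  have hMc : Coh.IsCoh M := Coherent.Existence.isCoh_push_of_isProper σ hQ₁
  obtain ⟨K, hK⟩ := Quot8.exists_eq_KI (Iso.refl O) a hMc
  -- the ideal of the reduction
  have hKσ : K.comap σ = I₁ := by
    refine Quot8.KI_injective (pullθ σ) ?_
    rw [← kernelSubobject_pullback_qI σ a hMc K hK]
    exact kernelSubobject_eq_of_comp_eq (ad.counit.app Q₁) ha
  have hKu : kernelSubobject ((Scheme.Modules.pullback u).map a) = Quot8.KI (pullθ u) I₀ := by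
    rw [kernelSubobject_pullback_qI u a hMc K hK, Scheme.IdealSheafData.comap_comp, hKσ, hI₀]
  haveI : Epi ((Scheme.Modules.pullback u).map a) := (Scheme.Modules.pullback u).map_epi a
  obtain ⟨⟨iQ, hiQ⟩, ⟨iK⟩⟩ := exists_quot_iso _ (pullθ u) I₀ hKu
  have hlci : GoodQuot ((Scheme.Modules.pullback u).map a) :=
    (hgood (Iso.refl _)).of_iso (pullθ u) iQ.symm (by
      rw [Quot8.qI, Iso.refl_hom, Category.id_comp, ← Category.assoc]
      show _ = Quot8.qI (pullθ u) I₀ ≫ iQ.inv
      rw [← hiQ, Category.assoc, Iso.hom_inv_id, Category.comp_id])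
  -- freeness of the stalks
  have hflatQ₁ : FlatMod.IsFlatOver p₁ Q₁ := by
    haveI : Coh.IsQCoh (Coh.structureModule I₁.subscheme) := Coherent.isQCoh_structureModule (X := I₁.subscheme)
    rw [show Q₁ = (Scheme.Modules.pushforward I₁.subschemeι).obj (Coh.structureModule I₁.subscheme) from rfl,
      VarietyLib.isFlatOver_push_iff]
    intro x
    exact (EGA43.FibDepth.isFlatOverAt_structureModule _ x).2 ((Flat.iff_flat_stalkMap _).1 inferInstance x)
  have hM : StFreeMod p t M := fun w => by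
    obtain ⟨z, rfl⟩ := hσs.surj w
    rw [← ht]
    exact freeMod_push p (R' := R₁) hφ hσ _ hflatQ₁ z
  have hE : StFree p O := fun w => by
    letI := baseMod p O w
    haveI : Module.Flat R (St O w) := (isFlatOverAt_iff_flat p O w).1
      ((EGA43.FibDepth.isFlatOverAt_structureModule p w).2 ((Flat.iff_flat_stalkMap _).1 inferInstance w))
    exact CAlgH3.free_of_flat_artinian (A := R) _
  have hPc : Coh.IsCoh (kernel a) := Coherent.isCoh_kernel a hO hMc.1
  obtain ⟨s, φ', hφ', hfree, hkerφ⟩ := exists_extension_of_local p hψ hker hu (AlgebraicGeometry.Surjective.surj (f := u)) ht0 htm hmt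
    hE a hM (ZClosLib.isCoh_pullback u _ hPc)
    (hloc_of_good p hψ hker hu (AlgebraicGeometry.Surjective.surj (f := u)) ht0 htm hmt hE a hM (stUnit_of_iso (Iso.refl O)) hlci)
    (hsplit.of_iso iQ.symm iK.symm)
  have hK'c : Coh.IsCoh (kernel s) :=
    Coherent.isCoh_kernel s hPc (Coherent.Existence.isCoh_push_of_isProper u (ZClosLib.isCoh_pullback u _ hMc)).1
  let q := cokernel.π (kernel.ι s ≫ kernel.ι a)
  have hQc : Coh.IsCoh (cokernel (kernel.ι s ≫ kernel.ι a)) := Coherent.isCoh_cokernel _ hK'c.1 hO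
  obtain ⟨J, hJ⟩ := Quot8.exists_eq_KI (Iso.refl O) q hQc
  refine ⟨J, ?_, ?_⟩
  · haveI : Epi ((Scheme.Modules.pullback σ).map q) := (Scheme.Modules.pullback σ).map_epi q
    let i := (Scheme.Modules.pullback σ).map φ' ≫ ad.counit.app Q₁
    have hi : (Scheme.Modules.pullback σ).map q ≫ i = q₁ := by
      rw [← Category.assoc, ← Functor.map_comp, hφ', ha]
    haveI : Epi i := epi_of_epi_fac hi
    haveI : Mono i := Coherent.CohBC.mono_of_injective_stalks _ fun z => by
      refine (injective_iff_map_eq_zero (stk i z)).2 fun v hv => ?_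
      obtain ⟨y, rfl⟩ := unitSt_surjective σ z _ v
      rw [stk_comp, unitSt_natural] at hv
      replace hv := (unitSt_eq_zero_iff σ z _ _).1 (injective_stk (ad.counit.app _) z (hv.trans (map_zero _).symm))
      have h0 : stk φ' (σ z) y = 0 := Submodule.smul_induction_on hv
        (fun r hr s _ => DCat.ClosedPush.smul_stalk_push σ _ z r hr s) fun a b ha hb => by rw [ha, hb, add_zero]
      obtain ⟨w, rfl⟩ := hkerφ _ _ h0
      rw [unitSt_eq_zero_iff_base p hφ hσ, ht]
      letI := baseMod p (cokernel (kernel.ι s ≫ kernel.ι a)) (σ z)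
      exact Submodule.smul_mem_smul (r := t) (Ideal.mem_span_singleton_self t) (Submodule.mem_top (x := w))
    haveI : IsIso i := isIso_of_mono_of_epi i
    refine Quot8.KI_injective (pullθ σ) ?_
    rw [← kernelSubobject_pullback_qI σ q hQc J hJ]
    exact kernelSubobject_eq_of_comp_eq i hi
  · obtain ⟨⟨i, -⟩, -⟩ := exists_quot_iso q (Iso.refl O) J hJ
    haveI : Coh.IsQCoh (Coh.structureModule J.subscheme) := Coherent.isQCoh_structureModule (X := J.subscheme)
    have hfl : FlatMod.IsFlatOver p (ClSub.quotMod J) := fun x => by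
      refine EGA43.DvrCrit.isFlatOverAt_of_iso _ i x ((isFlatOverAt_iff_flat (R := R) _ _ x).2 ?_)
      letI := baseMod p (cokernel (kernel.ι s ≫ kernel.ι a)) x
      haveI : Module.Free R (St (cokernel (kernel.ι s ≫ kernel.ι a)) x) := hfree x
      infer_instance
    rw [ClSub.quotMod, VarietyLib.isFlatOver_push_iff] at hfl
    exact (Flat.iff_flat_stalkMap _).2 fun x => (EGA43.FibDepth.isFlatOverAt_structureModule _ x).1 (hfl x)

end Groth.Agent.LciLift29
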