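import Groth.Agent.LciLift29.StalkLift
import Groth.Agent.HilbertBurch29.Apply

/-!
# Lifting determinantal generators over an Artinian local ring
-/

set_option autoImplicit false

universe u

open IsLocalRing Submodule Matrix
open Groth.Agent.ArtFunLib.QuotLift Groth.Agent.HilbertBurch29

namespace Groth.Agent.LciLift29

variable {B O : Type u} [CommRing B] [IsLocalRing B] [CommRing O] [Algebra B O] {M : Type u} [AddCommGroup M] [Module B M]
  [Module.Free B O] {t : B}

/-- Exactness over a quotient gives exactness modulo the kernel. -/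
theorem cond_ker {A Ō : Type u} [CommRing A] [CommRing Ō] (σ : A →+* Ō) (hσ : Function.Surjective σ) {r : ℕ}
    (φ₀ : Matrix (Fin (r + 1)) (Fin r) Ō) (hinj : Function.Injective φ₀.mulVecLin)
    (hex : LinearMap.range φ₀.mulVecLin = LinearMap.ker (Fintype.linearCombination Ō (minors φ₀)))
    (φ : Matrix (Fin (r + 1)) (Fin r) A) (g : Fin (r + 1) → A) (hφ : φ.map σ = φ₀)
    (hg : (fun i => σ (g i)) = minors φ₀) : Cond φ g (RingHom.ker σ) := by
  refine Cond.pull σ hσ _ le_rfl ?_
  rw [hφ, hg, (Ideal.map_eq_bot_iff_le_ker σ).2 le_rfl]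
  exact cond_bot _ _ hinj hex

/-- A flat lift of a determinantal ideal inside a given deformation of it. -/
theorem exists_lift_hb [IsArtinianRing B] [IsNoetherianRing O] (ht : t ≠ 0) (htm : t ∈ maximalIdeal B)
    (hmt : ∀ a ∈ maximalIdeal B, a * t = 0) (hM : FreeMod (Ideal.span {t}) M) (a : O →ₗ[B] M)
    (ha : Function.Surjective a) (hP : ∀ r v, a v = 0 → a (r * v) = 0) {Ō : Type u} [CommRing Ō] (σ : O →+* Ō)
    (hσ : Function.Surjective σ) (hker : RingHom.ker σ = (maximalIdeal B).map (algebraMap B O)) {r : ℕ}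
    (φ₀ : Matrix (Fin (r + 1)) (Fin r) Ō) (hinj : Function.Injective φ₀.mulVecLin)
    (hex : LinearMap.range φ₀.mulVecLin = LinearMap.ker (Fintype.linearCombination Ō (minors φ₀)))
    (hlow : ∀ i, ∃ g, σ g = minors φ₀ i ∧ a g = 0)
    (hup : ∀ q, a q = 0 → σ q ∈ Ideal.span (Set.range (minors φ₀))) :
    ∃ L : Ideal O, (∀ l ∈ L, a l = 0) ∧ (∀ q, a q = 0 → ∃ e, q - t • e ∈ L) ∧
      ∀ e, t • e ∈ L → a e ∈ (maximalIdeal B • ⊤ : Submodule B M) := by
  let PI : Ideal O :=
    { carrier := {v | a v = 0}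
      add_mem' := fun {x y} hx hy => by
        simp only [Set.mem_setOf_eq] at hx hy ⊢
        rw [map_add, hx, hy, add_zero]
      zero_mem' := map_zero a
      smul_mem' := fun r v hv => hP r v hv }
  have hmem : ∀ v, v ∈ (maximalIdeal B • ⊤ : Submodule B O) ↔ v ∈ RingHom.ker σ := fun v => by
    rw [hker, Ideal.smul_top_eq_map]
    rfl
  have htP : ∀ e, a (t • e) = 0 := fun e => by
    rw [map_smul, hM.smul_eq_zero t (Ideal.mem_span_singleton_self t)]
  choose g hgσ hga using hlow
  have hG : Ideal.span (Set.range g) ≤ PI := Ideal.span_le.2 (by rintro _ ⟨i, rfl⟩; exact hga i)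
  have cover : ∀ g' : Fin (r + 1) → O, (∀ i, σ (g' i) = minors φ₀ i) → ∀ q, a q = 0 →
      ∃ l ∈ Ideal.span (Set.range g'), q - l ∈ (maximalIdeal B • ⊤ : Submodule B O) := fun g' hg' q hq => by
    have h1 : σ q ∈ (Ideal.span (Set.range g')).map σ := by
      rw [Ideal.map_span, ← Set.range_comp, show σ ∘ g' = minors φ₀ from funext hg']
      exact hup q hq
    obtain ⟨l, hl, hlq⟩ := (Ideal.mem_map_iff_of_surjective σ hσ).1 h1
    exact ⟨l, hl, (hmem _).2 (by rw [RingHom.mem_ker, map_sub, hlq, sub_self])⟩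
  have hdec : ∀ q, a q = 0 → ∃ e, q - t • e ∈ Ideal.span (Set.range g) :=
    decomp_of_cover hM a ha (Ideal.span (Set.range g)) (fun l hl => hG hl) (cover g hgσ)
  -- syzygies of `g` modulo `t`
  choose φ₁ hφ₁ using fun i c => hσ (φ₀ i c)
  have hcol : ∀ c, ∃ (w : Fin (r + 1) → O) (e : O), (∀ i, σ (w i) = 0) ∧
      g ⬝ᵥ (fun i => φ₁ i c) = g ⬝ᵥ w + t • e := fun c => by
    have hx : a (g ⬝ᵥ fun i => φ₁ i c) = 0 := hG (by
      simp only [dotProduct]
      exact Ideal.sum_mem _ fun i _ => Ideal.mul_mem_right _ _ (Ideal.subset_span ⟨i, rfl⟩))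
    have hxm : (g ⬝ᵥ fun i => φ₁ i c) ∈ (maximalIdeal B • ⊤ : Submodule B O) := (hmem _).2 (by
      rw [RingHom.mem_ker]
      have h := congrFun (minors_vecMul φ₀) c
      simp only [Matrix.vecMul, dotProduct, Pi.zero_apply] at h
      simpa [dotProduct, map_sum, hgσ, hφ₁] using h)
    let P := LinearMap.ker a
    let s : O →ₗ[B] P := LinearMap.codRestrict P (t • LinearMap.id) htP
    obtain ⟨e, he⟩ := exists_sub_mem (B := B) (p := (⟨_, hx⟩ : P)) rfl hM a ha P.subtype P.subtype_injective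
      (fun y => ⟨fun hy => ⟨⟨y, hy⟩, rfl⟩, fun ⟨z, hz⟩ => hz ▸ z.2⟩) s (fun _ => rfl) hxm
    have key : ∀ p : P, p ∈ (maximalIdeal B • ⊤ : Submodule B P) →
        ∃ w : Fin (r + 1) → O, (∀ i, σ (w i) = 0) ∧ (p : O) = g ⬝ᵥ w := by
      intro p hp
      refine Submodule.smul_induction_on hp (fun b hb y _ => ?_) ?_
      · obtain ⟨e', he'⟩ := hdec y.1 y.2
        obtain ⟨v, hv⟩ := (Ideal.mem_span_range_iff_exists_fun).1 he'
        refine ⟨fun i => algebraMap B O b * v i, fun i => ?_, ?_⟩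
        · rw [map_mul, show σ (algebraMap B O b) = 0 from RingHom.mem_ker.1 (hker ▸ Ideal.mem_map_of_mem _ hb),
            zero_mul]
        · have h0 : b • (t • e') = (0 : O) := by rw [smul_smul, hmt b hb, zero_smul]
          show b • (y : O) = _
          rw [← sub_zero (b • (y : O)), ← h0, ← smul_sub, ← hv, Algebra.smul_def, Finset.mul_sum, dotProduct]
          exact Finset.sum_congr rfl fun i _ => by ring
      · rintro x y ⟨w, hw, hx⟩ ⟨w', hw', hy⟩
        exact ⟨w + w', fun i => by rw [Pi.add_apply, map_add, hw, hw', add_zero],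
          by rw [Submodule.coe_add, hx, hy, dotProduct_add]⟩
    obtain ⟨w, hw, hwp⟩ := key _ he
    refine ⟨w, e, hw, ?_⟩
    rw [← hwp]
    show _ = ((⟨_, hx⟩ : P) - s e : O) + t • e
    simp [s]
  choose w e hw hwe using hcol
  let φ : Matrix (Fin (r + 1)) (Fin r) O := Matrix.of fun i c => φ₁ i c - w c i
  have hφσ : φ.map σ = φ₀ := by
    ext i c
    show σ (φ₁ i c - w c i) = φ₀ i c
    rw [map_sub, hφ₁, hw, sub_zero]
  -- over `B / (t)`
  let J : Ideal B := Ideal.span {t}
  have hJm : J ≤ maximalIdeal B := (Ideal.span_singleton_le_iff_mem _).2 htm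
  haveI : Nontrivial (B ⧸ J) := Ideal.Quotient.nontrivial_iff.2 (ne_top_of_le_ne_top (maximalIdeal.isMaximal B).ne_top hJm)
  haveI : IsLocalRing (B ⧸ J) := IsLocalRing.of_surjective' _ Ideal.Quotient.mk_surjective
  let A := O ⧸ J.map (algebraMap B O)
  haveI : Module.Flat (B ⧸ J) A := flat_quotient_map B J O
  let π : O →+* A := Ideal.Quotient.mk _
  let σ' : A →+* Ō := Ideal.Quotient.lift _ σ fun x hx => by
    have := Ideal.map_mono (f := algebraMap B O) hJm hx
    rwa [← hker, RingHom.mem_ker] at this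
  have hσ' : Function.Surjective σ' := fun y => by
    obtain ⟨x, rfl⟩ := hσ y
    exact ⟨π x, rfl⟩
  have hker' : RingHom.ker σ' = (maximalIdeal (B ⧸ J)).map (algebraMap (B ⧸ J) A) := by
    rw [← show (maximalIdeal B).map (Ideal.Quotient.mk J) = maximalIdeal (B ⧸ J) from
      IsLocalRing.map_maximalIdeal_of_surjective _ Ideal.Quotient.mk_surjective, map_reduction]
    rw [← hker]
    exact Ideal.ker_quotient_lift _ _
  have hgπ : (fun i => π (g i)) ᵥ* φ.map π = 0 := funext fun c => by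
    have ht0 : π (t • e c) = 0 := Ideal.Quotient.eq_zero_iff_mem.2 (by
      rw [Algebra.smul_def]
      exact Ideal.mul_mem_right _ _ (Ideal.mem_map_of_mem _ (Ideal.mem_span_singleton_self t)))
    have h := congrArg π (hwe c)
    rw [map_add, ht0, add_zero] at h
    simp only [dotProduct, map_sum, map_mul] at h
    simp only [Matrix.vecMul, dotProduct, Matrix.map_apply, φ, Matrix.of_apply, map_sub, mul_sub,
      Finset.sum_sub_distrib, h, sub_self, Pi.zero_apply]
  have hφπ : (φ.map π).map σ' = φ₀ := by rw [← hφσ]; rfl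
  have hmσ' : (fun i => σ' (minors (φ.map π) i)) = minors φ₀ := by rw [← map_map_vec, hφπ]
  have hcA := cond_ker σ' hσ' φ₀ hinj hex (φ.map π) (minors (φ.map π)) hφπ hmσ'
  rw [hker'] at hcA
  obtain ⟨injA, hexA, -⟩ := exact_of_cond (C := B ⧸ J) (minors_vecMul (φ.map π)) hcA
  obtain ⟨u, hu⟩ := exists_multiplier injA hexA hgπ
  have hu1 : σ' (u - 1) = 0 := by
    refine minors_faithful (φ := φ₀) (fun v hv => hinj (by simpa using hv)) fun i => ?_
    have h := congrArg σ' (hu i)
    rw [map_mul, congrFun hmσ' i, show σ' (π (g i)) = σ (g i) from rfl, hgσ] at h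
    rw [map_sub, map_one, sub_mul, one_mul, ← h, sub_self]
  have hunit : IsUnit u := by
    have h1 : u - 1 ∈ (maximalIdeal (B ⧸ J)).map (algebraMap (B ⧸ J) A) := hker' ▸ hu1
    have h2 := Ideal.mem_jacobson_bot.1 (map_maximalIdeal_le_jacobson (C := B ⧸ J) (A := A) h1) 1
    simpa using h2
  have hminP : ∀ i, a (minors φ i) = 0 := fun i => by
    obtain ⟨v, hv⟩ := hunit.exists_left_inv
    obtain ⟨c, rfl⟩ := Ideal.Quotient.mk_surjective v
    have h : π (minors φ i) = π (c * g i) := by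
      rw [map_mul π c (g i), show π (g i) = u * minors (φ.map π) i from hu i, ← mul_assoc,
        show π c * u = 1 from hv, one_mul, minors_map]
    obtain ⟨d, hd⟩ : ∃ d, minors φ i - c * g i = algebraMap B O t * d := by
      have h2 : minors φ i - c * g i ∈ J.map (algebraMap B O) := Ideal.Quotient.eq.1 h
      rw [Ideal.map_span, Set.image_singleton, Ideal.mem_span_singleton'] at h2
      obtain ⟨d, hd⟩ := h2
      exact ⟨d, by rw [← hd, mul_comm]⟩
    rw [← sub_add_cancel (minors φ i) (c * g i), hd, ← Algebra.smul_def, map_add, htP, hP c _ (hga i), add_zero]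
  -- over `B`
  have hcO := cond_ker σ hσ φ₀ hinj hex φ (minors φ) hφσ (by rw [← map_map_vec, hφσ])
  rw [hker] at hcO
  obtain ⟨-, -, hflat⟩ := exact_of_cond (C := B) (minors_vecMul φ) hcO
  have hL : ∀ l ∈ Ideal.span (Set.range (minors φ)), a l = 0 := fun l hl =>
    (Ideal.span_le (I := PI)).2 (by rintro _ ⟨i, rfl⟩; exact hminP i) hl
  haveI : Module.Flat B (O ⧸ Ideal.span (Set.range (minors φ))) := hflat
  exact ⟨_, hL, lift_of_flat ht hM a ha _ hL
    (cover (minors φ) fun i => by rw [← minors_map, hφσ])⟩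

end Groth.Agent.LciLift29
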