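import Groth.Agent.LciLift29.HBQuot
import Groth.Agent.HilbertBurch29.Regular
import Groth.Agent.CAlgH3.CMRing

/-!
# Cohen–Macaulay closed subschemes of codimension two on stalks
-/

set_option autoImplicit false
set_option backward.isDefEq.respectTransparency false
set_option backward.isDefEq.respectTransparency.types false
set_option linter.style.haveILetI false

universe u

open CategoryTheory CategoryTheory.Limits AlgebraicGeometry Function Matrix
open Groth.Agent.ArtFunLib.QuotLift Groth.Agent.HilbertBurch29

noncomputable section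

namespace Groth.Agent.LciLift29

variable {X W : Scheme.{u}}

/-- The kernels of the stalk maps have determinantal resolutions. -/
def StkHB (f : W ⟶ X) : Prop :=
  ∀ z, ∃ (r : ℕ) (φ : Matrix (Fin (r + 1)) (Fin r) (X.presheaf.stalk (f z))), Injective φ.mulVecLin ∧
    LinearMap.range φ.mulVecLin = LinearMap.ker (Fintype.linearCombination (X.presheaf.stalk (f z)) (minors φ)) ∧
    RingHom.ker (f.stalkMap z).hom = Ideal.span (Set.range (minors φ))

theorem stkHB_of_cm (f : W ⟶ X) [IsClosedImmersion f] (hR : ∀ z, IsRegularLocalRing (X.presheaf.stalk (f z)))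
    (hCM : ∀ z, _root_.LocCoh.IsCohenMacaulayLocalRing (W.presheaf.stalk z))
    (hcodim : ∀ z, ringKrullDim (W.presheaf.stalk z) + 2 = ringKrullDim (X.presheaf.stalk (f z))) :
    StkHB f := fun z => by
  haveI := hR z
  haveI := hCM z
  let e := RingHom.quotientKerEquivOfSurjective (f.stalkMap_surjective z)
  haveI := CAlgH3.isCohenMacaulayLocalRing_of_ringEquiv e.symm
  obtain ⟨r, φ, hspan, -, hinj, hex⟩ := exists_presentation (RingHom.ker (f.stalkMap z).hom)
    (by rw [ringKrullDim_eq_of_ringEquiv e]; exact hcodim z)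
  exact ⟨r, φ, hinj, hex, hspan.symm⟩

theorem stkHB_comap {Z : Scheme.{u}} (I : X.IdealSheafData) (e : Z ⟶ X) [IsIso e]
    (hR : ∀ x, IsRegularLocalRing (X.presheaf.stalk (I.subschemeι x)))
    (hCM : ∀ x, _root_.LocCoh.IsCohenMacaulayLocalRing (I.subscheme.presheaf.stalk x))
    (hcodim : ∀ x, ringKrullDim (I.subscheme.presheaf.stalk x) + 2 =
      ringKrullDim (X.presheaf.stalk (I.subschemeι x))) :
    StkHB (I.comap e).subschemeι := by
  let c : (I.comap e).subscheme ⟶ I.subscheme := (I.comapIso e).hom ≫ pullback.snd e I.subschemeι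
  haveI : IsIso c := inferInstance
  have hc : c ≫ I.subschemeι = (I.comap e).subschemeι ≫ e := by
    rw [Category.assoc, ← pullback.condition, ← Category.assoc, Scheme.IdealSheafData.comapIso_hom_fst]
  refine stkHB_of_cm _ (fun w => ?_)
    (fun w => haveI := hCM (c w)
      CAlgH3.isCohenMacaulayLocalRing_of_ringEquiv (asIso (c.stalkMap w)).commRingCatIsoToRingEquiv)
    (fun w => ?_)
  · haveI : IsRegularLocalRing (X.presheaf.stalk (e ((I.comap e).subschemeι w))) := by
      rw [← Scheme.Hom.comp_apply, ← hc]
      exact hR (c w)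
    exact IsRegularLocalRing.of_ringEquiv (asIso (e.stalkMap ((I.comap e).subschemeι w))).commRingCatIsoToRingEquiv
  · rw [← ringKrullDim_eq_of_ringEquiv (asIso (c.stalkMap w)).commRingCatIsoToRingEquiv,
      ← ringKrullDim_eq_of_ringEquiv (asIso (e.stalkMap ((I.comap e).subschemeι w))).commRingCatIsoToRingEquiv,
      hcodim, ← Scheme.Hom.comp_apply, ← Scheme.Hom.comp_apply, hc]

/-- A surjection from a trivial module onto the direct image of the structure sheaf. -/
theorem hbAt_push (f : W ⟶ X) [IsClosedImmersion f] (hf : StkHB f) {E : X.Modules}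
    (θ : E ≅ Coh.structureModule X) (q : E ⟶ (Scheme.Modules.pushforward f).obj (Coh.structureModule W)) [Epi q]
    (x : X) : HBAt q x := by
  let e1 : X.presheaf.stalk x ≃ₗ[X.presheaf.stalk x] St E x :=
    (LinearEquiv.ofBijective (LinearMap.toSpanSingleton (X.presheaf.stalk x) (St (Coh.structureModule X) x)
      (AssSch12.unitOne x)) (AssSch12.bijective_smul_unitOne x)).trans (stkEquiv θ x).symm
  have hr1 : ∀ r, e1 r = r • e1 1 := fun r => by rw [← map_smul, smul_eq_mul, mul_one]
  by_cases hx : x ∈ Set.range f.base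
  · obtain ⟨z, rfl⟩ := hx
    obtain ⟨r, φ, hinj, hex, hker⟩ := hf z
    let W₁ := (Scheme.Modules.pushforward f).obj (Coh.structureModule W)
    let ε := (Scheme.Modules.pullbackPushforwardAdjunction f).counit.app (Coh.structureModule W)
    let T : St E (f z) → St (Coh.structureModule W) z := fun w => stk ε z (unitSt f z W₁ (stk q (f z) w))
    have hT : ∀ r w, T (r • w) = (f.stalkMap z).hom r • T w := fun r w => by
      show stk ε z (unitSt f z W₁ (stk q (f z) (r • w))) = _
      rw [map_smul, unitSt_smul, map_smul]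
    refine ⟨e1, r, φ, hinj, hex, fun v => ?_⟩
    rw [← hker, RingHom.mem_ker]
    refine ⟨fun h => ?_, fun h => ?_⟩
    · haveI := DCat.ClosedPush.isIso_counit f (Coh.structureModule W)
      obtain ⟨y, hy⟩ := surjective_stk ε z (AssSch12.unitOne z)
      obtain ⟨m, rfl⟩ := unitSt_surjective f z W₁ y
      obtain ⟨w, rfl⟩ := surjective_stk q (f z) m
      obtain ⟨s, rfl⟩ := e1.surjective w
      refine (AssSch12.bijective_smul_unitOne z).1 ?_
      show (f.stalkMap z).hom v • AssSch12.unitOne z = (0 : W.presheaf.stalk z) • AssSch12.unitOne z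
      rw [zero_smul, ← hy]
      show (f.stalkMap z).hom v • T (e1 s) = 0
      rw [hr1 s, hT, smul_comm, ← hT, ← hr1]
      show _ • stk ε z (unitSt f z W₁ (stk q (f z) (e1 v))) = 0
      rw [h, map_zero, map_zero, smul_zero]
    · rw [hr1, map_smul]
      exact DCat.ClosedPush.smul_stalk_push f _ z v h _
  · haveI := DCat.ClosedPush.subsingleton_stalk_push f (Coh.structureModule W) x hx
    let φ : Matrix (Fin 1) (Fin 0) (X.presheaf.stalk x) := Matrix.of fun _ j => j.elim0
    have hm : ∀ i, minors φ i = 1 := fun i => by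
      fin_cases i
      simp [minors]
    refine ⟨e1, 0, φ, fun a b _ => Subsingleton.elim a b, ?_, fun v => ?_⟩
    · refine le_antisymm ?_ fun v hv => ?_
      · rintro _ ⟨w, rfl⟩
        rw [Subsingleton.elim w 0, map_zero]
        exact Submodule.zero_mem _
      · refine ⟨0, ?_⟩
        rw [LinearMap.mem_ker, Fintype.linearCombination_apply] at hv
        simp [hm] at hv
        funext i
        fin_cases i
        simp [hv]
    · refine ⟨fun _ => ?_, fun _ => Subsingleton.elim _ _⟩
      rw [← mul_one v]
      exact Ideal.mul_mem_left _ v (Ideal.subset_span ⟨0, hm 0⟩)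

end Groth.Agent.LciLift29

end
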