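import Groth.Agent.LciLift29.Family
import Groth.Agent.EGA43.InjFibre.Scheme
import Groth.Agent.ArtFunLib.QuotLift.Hilb

/-!
# Stalkwise split extensions and inverse images
-/

set_option autoImplicit false
set_option backward.isDefEq.respectTransparency false
set_option backward.isDefEq.respectTransparency.types false
set_option linter.style.haveILetI false

universe u

open CategoryTheory CategoryTheory.Limits AlgebraicGeometry
open Groth.Agent.ArtFunLib.QuotLift

noncomputable section

namespace Groth.Agent.LciLift29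

variable {Y Z : Scheme.{u}} (f : Z ⟶ Y)

/-- Stalkwise sections pull back. -/
theorem exists_section_pullback {W K : Y.Modules} (α : W ⟶ K) (z : Z)
    (h : ∃ σ : St K (f z) →ₗ[Y.presheaf.stalk (f z)] St W (f z), ∀ v, stk α (f z) (σ v) = v) :
    ∃ σ : St ((Scheme.Modules.pullback f).obj K) z →ₗ[Z.presheaf.stalk z] St ((Scheme.Modules.pullback f).obj W) z,
      ∀ v, stk ((Scheme.Modules.pullback f).map α) z (σ v) = v := by
  obtain ⟨σ, hσ⟩ := h
  let e := ModStalk.pullbackStalkIso f z
  let E := ModuleCat.extendScalars.{u, u, u} (f.stalkMap z).hom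
  let s := e.hom.app K ≫ E.map (ModuleCat.ofHom σ) ≫ e.inv.app W
  have h0 : ModuleCat.ofHom σ ≫ (DerSch.stalkFunctor Y (f z)).map α = 𝟙 _ :=
    ModuleCat.hom_ext (LinearMap.ext hσ)
  have hs : s ≫ (DerSch.stalkFunctor Z z).map ((Scheme.Modules.pullback f).map α) = 𝟙 _ := by
    have h1 : e.inv.app W ≫ (DerSch.stalkFunctor Z z).map ((Scheme.Modules.pullback f).map α) =
        E.map ((DerSch.stalkFunctor Y (f z)).map α) ≫ e.inv.app K := (e.inv.naturality α).symm
    simp only [s, Category.assoc]
    rw [h1, ← E.map_comp_assoc]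
    erw [h0, E.map_id, Category.id_comp]
    exact e.hom_inv_id_app K
  exact ⟨s.hom, fun v => ConcreteCategory.congr_hom hs v⟩

/-- In a stalkwise split extension the submodule is a direct summand on stalks, also after inverse image. -/
theorem mono_pullback_of_stalk_split {Q W K : Y.Modules} (β : Q ⟶ W) (α : W ⟶ K) (w : β ≫ α = 0)
    (hS : (ShortComplex.mk β α w).ShortExact)
    (hloc : ∀ y, ∃ σ : St K y →ₗ[Y.presheaf.stalk y] St W y, ∀ v, stk α y (σ v) = v) :
    Mono ((Scheme.Modules.pullback f).map β) := by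
  refine Coherent.CohBC.mono_of_injective_stalks _ fun z => ?_
  obtain ⟨σ, hσ⟩ := hloc (f z)
  have hS' : ((ShortComplex.mk β α w).map (DerSch.stalkFunctor Y (f z))).ShortExact := hS.map_of_exact _
  let s := ShortComplex.Splitting.ofExactOfSection _ hS'.exact (ModuleCat.ofHom σ)
    (ModuleCat.hom_ext (LinearMap.ext hσ)) hS'.mono_f
  let e := ModStalk.pullbackStalkIso f z
  let E := ModuleCat.extendScalars.{u, u, u} (f.stalkMap z).hom
  have h1 : (DerSch.stalkFunctor Z z).map ((Scheme.Modules.pullback f).map β) ≫ e.hom.app W ≫ E.map s.r =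
      e.hom.app Q := by
    have h2 : (DerSch.stalkFunctor Z z).map ((Scheme.Modules.pullback f).map β) ≫ e.hom.app W =
        e.hom.app Q ≫ E.map ((DerSch.stalkFunctor Y (f z)).map β) := e.hom.naturality β
    rw [reassoc_of% h2, ← E.map_comp]
    erw [s.f_r, E.map_id, Category.comp_id]
  have hinj : Function.Injective (e.hom.app Q).hom :=
    (ConcreteCategory.bijective_of_isIso (e.hom.app Q)).1
  intro v v' hv
  have key : ∀ w, (e.hom.app Q).hom w =
      (E.map s.r).hom ((e.hom.app W).hom (((DerSch.stalkFunctor Z z).map ((Scheme.Modules.pullback f).map β)).hom w)) :=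
    fun w => by
      conv_lhs => rw [← h1]
      simp only [ModuleCat.hom_comp, LinearMap.comp_apply]
      rfl
  refine hinj ?_
  rw [key, key]
  exact congrArg (fun x => (E.map s.r).hom ((e.hom.app W).hom x)) hv

/-- Extensions of `K` by a direct image split when those of the inverse image of `K` do. -/
theorem QSplits.push [IsClosedImmersion f] {K : Y.Modules} {N : Z.Modules}
    (h : QSplits N ((Scheme.Modules.pullback f).obj K)) : QSplits ((Scheme.Modules.pushforward f).obj N) K := by
  intro W β α w hS hW hloc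
  let F := Scheme.Modules.pullback f
  let ad := Scheme.Modules.pullbackPushforwardAdjunction f
  haveI := DCat.ClosedPush.isIso_counit f N
  haveI := mono_pullback_of_stalk_split f β α w hS hloc
  haveI : Epi α := hS.epi_g
  haveI : F.IsLeftAdjoint := ad.isLeftAdjoint
  haveI : Epi (F.map α) := F.map_epi α
  have w' : (inv (ad.counit.app N) ≫ F.map β) ≫ F.map α = 0 := by
    rw [Category.assoc, ← F.map_comp, w, F.map_zero, comp_zero]
  have hE : (ShortComplex.mk (F.map β) (F.map α) (by rw [← F.map_comp, w, F.map_zero])).Exact :=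
    hS.exact.map_of_epi_of_preservesCokernel F hS.epi_g inferInstance
  have hS' : (ShortComplex.mk (inv (ad.counit.app N) ≫ F.map β) (F.map α) w').ShortExact :=
    { exact := (ShortComplex.exact_iff_of_iso (ShortComplex.isoMk
        (S₁ := ShortComplex.mk (inv (ad.counit.app N) ≫ F.map β) (F.map α) w')
        (S₂ := ShortComplex.mk (F.map β) (F.map α) (by rw [← F.map_comp, w, F.map_zero]))
        (asIso (ad.counit.app N)).symm (Iso.refl _) (Iso.refl _) (by simp) (by simp))).2 hE
      mono_f := inferInstanceAs (Mono (inv (ad.counit.app N) ≫ F.map β))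
      epi_g := inferInstanceAs (Epi (F.map α)) }
  haveI := hW
  obtain ⟨r, hr⟩ := h _ _ _ w' hS' (EGA43.InjFibre.isQCoh_pullback f W) fun z =>
    exists_section_pullback f α z (hloc (f z))
  refine ⟨ad.homEquiv _ _ r, (ad.homEquiv _ _).symm.injective ?_⟩
  rw [← ad.homEquiv_naturality_left, Equiv.symm_apply_apply, ad.homEquiv_counit, F.map_id, Category.id_comp]
  rw [Category.assoc, IsIso.inv_comp_eq, Category.comp_id] at hr
  exact hr

/-- Transport along an isomorphism of schemes. -/
theorem QSplits.pullback_iso (e : Z ⟶ Y) [IsIso e] {Q K : Y.Modules} (h : QSplits Q K) :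
    QSplits ((Scheme.Modules.pullback e).obj Q) ((Scheme.Modules.pullback e).obj K) := by
  intro W β α w hS hW hloc
  let G := Scheme.Modules.pullback (inv e)
  haveI : G.IsEquivalence := isEquivalence_pullback (inv e)
  haveI : G.Additive := Functor.additive_of_preserves_binary_products G
  let u₁ : Q ≅ G.obj ((Scheme.Modules.pullback e).obj Q) := (pullbackIsoEquiv e).unitIso.app Q
  let u₂ : K ≅ G.obj ((Scheme.Modules.pullback e).obj K) := (pullbackIsoEquiv e).unitIso.app K
  have w' : (u₁.hom ≫ G.map β) ≫ G.map α ≫ u₂.inv = 0 := by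
    rw [Category.assoc, ← G.map_comp_assoc, w, G.map_zero, zero_comp, comp_zero]
  have hS' : (ShortComplex.mk (u₁.hom ≫ G.map β) (G.map α ≫ u₂.inv) w').ShortExact :=
    ShortComplex.shortExact_of_iso (ShortComplex.isoMk (S₁ := (ShortComplex.mk β α w).map G)
      (S₂ := ShortComplex.mk (u₁.hom ≫ G.map β) (G.map α ≫ u₂.inv) w') u₁.symm (Iso.refl _) u₂.symm
      (by simp [u₁]) (by simp)) (hS.map_of_exact G)
  haveI := hW
  obtain ⟨r, hr⟩ := h _ _ _ w' hS' (EGA43.InjFibre.isQCoh_pullback (inv e) W) fun y => by
    obtain ⟨σ, hσ⟩ := exists_section_pullback (inv e) α y (hloc _)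
    refine ⟨σ.comp (stk u₂.hom y), fun v => ?_⟩
    rw [LinearMap.comp_apply, stk_comp, hσ, ← stk_comp, Iso.hom_inv_id, stk_id]
  refine ⟨G.preimage (r ≫ u₁.hom), G.map_injective ?_⟩
  rw [G.map_comp, G.map_preimage, G.map_id, ← cancel_epi u₁.hom, ← Category.assoc, ← Category.assoc, hr,
    Category.id_comp]
  exact (Category.comp_id _).symm

end Groth.Agent.LciLift29

end
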