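import Groth.Agent.LciLift29.HBFibre
import Groth.Agent.LciLift29.QPush
import Groth.Agent.ArtFunLib.QuotLift.Hilb

/-!
# Embedded deformations of locally complete intersections lift
-/

set_option autoImplicit false
set_option backward.isDefEq.respectTransparency false
set_option backward.isDefEq.respectTransparency.types false
set_option linter.style.haveILetI false
set_option linter.unusedSectionVars false

universe u

open CategoryTheory CategoryTheory.Limits AlgebraicGeometry Function IsLocalRing ArtFun
open Groth.Agent.ArtFunLib.QuotLift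

noncomputable section

namespace Groth.Agent.LciLift29

theorem stUnit_of_iso {Z : Scheme.{u}} {E : Z.Modules} (θ : E ≅ Coh.structureModule Z) : StUnit E := fun z =>
  ⟨(LinearEquiv.ofBijective (LinearMap.toSpanSingleton (Z.presheaf.stalk z) (St (Coh.structureModule Z) z)
    (AssSch12.unitOne z)) (AssSch12.bijective_smul_unitOne z)).trans (stkEquiv θ z).symm⟩

theorem qSplits_quotMod_idealMod {Y : Scheme.{u}} (I₀ : Y.IdealSheafData)
    (h : QSplits (Coh.structureModule I₀.subscheme) (Omega.conormal I₀.subschemeι)) :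
    QSplits (ClSub.quotMod I₀) (ClSub.idealMod I₀) :=
  QSplits.push I₀.subschemeι
    (h.of_iso (Iso.refl _) ((Scheme.Modules.pullback I₀.subschemeι).mapIso
      (eqToIso (congrArg ClSub.idealMod (Scheme.IdealSheafData.ker_subschemeι I₀)))))

variable {k : Type u} [Field k] (X : Scheme.{u}) (x : X ⟶ Spec (CommRingCat.of k)) [LocallyOfFiniteType x]

/-- The local condition on the closed fibre of `I₀`. -/
def IdealGood (I₀ : X.IdealSheafData) : Prop :=
  GoodQuot (Quot8.qI (Quot8.thetaT x (TA (Art.base k k))) (I₀.comap (pullback.fst x (TA (Art.base k k)).hom)))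

theorem goodFibre (I₀ : X.IdealSheafData) (hgood : IdealGood X x I₀)
    (hsplit : QSplits (ClSub.quotMod I₀) (ClSub.idealMod I₀)) :
    GoodFibre x (OX X) (KofI X x (I₀.comap (pullback.fst x (TA (Art.base k k)).hom))) := by
  let Z := PicF.XT x (TA (Art.base k k))
  let e : Z ⟶ X := pullback.fst x (TA (Art.base k k)).hom
  haveI : IsIso e := isIso_fst_base X x
  let J := I₀.comap e
  let θ := Quot8.thetaT x (TA (Art.base k k))
  obtain ⟨⟨eK⟩, ⟨eQ⟩⟩ := exists_fibre_iso_ideal X x I₀
  refine ⟨(hsplit.pullback_iso e).of_iso eQ eK, ?_⟩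
  obtain ⟨i, hi⟩ := Quot8.exists_cokernel_kernelSubobject_iso (Quot8.qI θ J)
  refine GoodQuot.of_iso (q := Quot8.qI θ J) hgood (Iso.refl _) i.symm ?_
  show cokernel.π (kernelSubobject (Quot8.qI θ J)).arrow = 𝟙 _ ≫ Quot8.qI θ J ≫ i.inv
  rw [Category.id_comp, ← Category.comp_id (cokernel.π _), ← i.hom_inv_id, ← Category.assoc, hi]

theorem idealGood_of_regular (I₀ : X.IdealSheafData) (hreg : Mor2.IsRegularClosedImmersion I₀.subschemeι) :
    IdealGood X x I₀ := by
  haveI := isIso_fst_base X x
  exact GoodQuot.of_lci (lciQuot_push _ (stkReg_comap I₀ hreg _) (Quot8.thetaT x (TA (Art.base k k))) _)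

theorem idealGood_of_cm (I₀ : X.IdealSheafData) (hR : ∀ z, IsRegularLocalRing (X.presheaf.stalk (I₀.subschemeι z)))
    (hCM : ∀ z, _root_.LocCoh.IsCohenMacaulayLocalRing (I₀.subscheme.presheaf.stalk z))
    (hcodim : ∀ z, ringKrullDim (I₀.subscheme.presheaf.stalk z) + 2 =
      ringKrullDim (X.presheaf.stalk (I₀.subschemeι z))) :
    IdealGood X x I₀ := by
  haveI := isIso_fst_base X x
  exact fun z => Or.inr (hbAt_push _ (stkHB_comap I₀ _ hR hCM hcodim) (Quot8.thetaT x (TA (Art.base k k))) _ z)

/-- Embedded deformations of a local complete intersection extend along surjections when extensions of the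
ideal by the quotient, split on stalks, split. -/
theorem localHilb_map_surjective_of_good (I₀ : X.IdealSheafData) (hgood : IdealGood X x I₀) (h : QSplits (ClSub.quotMod I₀) (ClSub.idealMod I₀))
    {B A : Art k k} (p : B ⟶ A) (hp : Function.Surjective p) :
    Function.Surjective ((localHilb X x I₀).map p) := by
  rintro ⟨I, hI, hI₀⟩
  haveI : IsLocallyNoetherian X := LocallyOfFiniteType.isLocallyNoetherian x
  obtain ⟨K, hK⟩ := exists_quotSet_KofI X x (A := A) hI
  obtain ⟨K', hK'⟩ := exists_extension_surjective_lci x (OX X)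
    (fun C => stUnit_of_iso (Quot8.thetaT x (TA C))) (Coherent.isCoh_structureModule X) p hp K
    (by rw [hK, fibreK_KofI X x hI₀]; exact goodFibre X x I₀ hgood h)
  obtain ⟨I', hI', hK'I⟩ := exists_ideal_of_quotSet X x K'
  rw [hK'I, quotPull_KofI, hK] at hK'
  have hp' := KofI_injective X x A hK'
  refine ⟨⟨I', hI', ?_⟩, Subtype.ext hp'⟩
  rw [← hI₀, ← hp', ← Scheme.IdealSheafData.comap_comp, Art.XAincl_XAmap]

/-- The case of a local complete intersection. -/
theorem localHilb_map_surjective_of_qSplits (I₀ : X.IdealSheafData)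
    (hreg : Mor2.IsRegularClosedImmersion I₀.subschemeι) (h : QSplits (ClSub.quotMod I₀) (ClSub.idealMod I₀))
    {B A : Art k k} (p : B ⟶ A) (hp : Function.Surjective p) :
    Function.Surjective ((localHilb X x I₀).map p) :=
  localHilb_map_surjective_of_good X x I₀ (idealGood_of_regular X x I₀ hreg) h p hp

/-- The same with the conormal sheaf. -/
theorem localHilb_map_surjective_lci (I₀ : X.IdealSheafData) (hreg : Mor2.IsRegularClosedImmersion I₀.subschemeι)
    (h : QSplits (Coh.structureModule I₀.subscheme) (Omega.conormal I₀.subschemeι))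
    {B A : Art k k} (p : B ⟶ A) (hp : Function.Surjective p) :
    Function.Surjective ((localHilb X x I₀).map p) :=
  localHilb_map_surjective_of_qSplits X x I₀ hreg (qSplits_quotMod_idealMod I₀ h) p hp

/-- The splitting hypothesis from the vanishing of the first cohomology of the normal sheaf. -/
theorem qSplits_conormal_of_HH {Y Z : Scheme.{u}} [IsLocallyNoetherian Y] [IsLocallyNoetherian Z] (i : Z ⟶ Y)
    [IsClosedImmersion i] [DCoh.HasSheafHom (Omega.conormal i)]
    (h1 : Subsingleton (Coh.HH Z ((DCoh.sheafHom (Omega.conormal i)).obj (Coh.structureModule Z)) 1)) :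
    QSplits (Coh.structureModule Z) (Omega.conormal i) := by
  refine qSplits_of_HH (ZClosLib.isCoh_pullback _ _ (CurveRR24.isCoh_idealMod' i.ker)) ?_
  let φ := (SheafOfModules.toSheaf Z.ringCatSheaf).mapIso
    ((Coherent.sheafHomIso (Omega.conormal i)).app (Coh.structureModule Z))
  have h : Function.Surjective (Sheaf.H.map φ.hom 1) := fun y =>
    ⟨Sheaf.H.map φ.inv 1 y, by rw [← Sheaf.H.map_comp_apply, Iso.inv_hom_id, Sheaf.H.map_id_apply]⟩
  exact h.subsingleton

end Groth.Agent.LciLift29

end
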