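import Groth.Agent.Coherent.InternalHomAdj
import Groth.Agent.DCat.PullTensor

/-!
# Internal homs into a direct image
-/

set_option autoImplicit false
set_option backward.isDefEq.respectTransparency false
set_option backward.isDefEq.respectTransparency.types false
set_option linter.style.haveILetI false
universe u

open CategoryTheory CategoryTheory.Limits AlgebraicGeometry
open Groth.Agent.Coherent Groth.Agent.DCat

noncomputable section

namespace Groth.Agent.LciLift29

variable {X Y : Scheme.{u}} (f : X ⟶ Y) (A : Y.Modules)

/-- Pullback commutes with tensoring. -/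
def tensPullIso : tensE A ⋙ Scheme.Modules.pullback f ≅
    Scheme.Modules.pullback f ⋙ tensE ((Scheme.Modules.pullback f).obj A) :=
  NatIso.ofComponents (fun N => PullTensor.pullTensorIso f A N) fun {_ _} ψ => PullTensor.pullTensorHom_nat₂ f A ψ

/-- `Hom(A, f_* N) = f_* Hom(f^* A, N)`. -/
def homPushIso : Scheme.Modules.pushforward f ⋙ internalHomFunctor A ≅
    internalHomFunctor ((Scheme.Modules.pullback f).obj A) ⋙ Scheme.Modules.pushforward f :=
  ((tensorHomAdj A).comp (Scheme.Modules.pullbackPushforwardAdjunction f)).rightAdjointUniq
    (((Scheme.Modules.pullbackPushforwardAdjunction f).comp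
      (tensorHomAdj ((Scheme.Modules.pullback f).obj A))).ofNatIsoLeft (tensPullIso f A).symm)

end Groth.Agent.LciLift29
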