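import Groth.Agent.LciLift29.Hilb
import Groth.Agent.HilbT29.Point
import Groth.Agent.FlatCx12.RelPCOps

/-!
# Artinian points of a Hilbert scheme lift at a locally complete intersection without obstructions
-/

set_option autoImplicit false
set_option backward.isDefEq.respectTransparency false
set_option backward.isDefEq.respectTransparency.types false
set_option linter.style.haveILetI false
universe u

open CategoryTheory CategoryTheory.Limits AlgebraicGeometry ArtFun ArtFun.Art
open Groth.Agent.ArtFunLib.QuotLift

noncomputable section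

namespace Groth.Agent.LciLift29

/-- Regularity passes to the canonical closed subscheme. -/
theorem isRegular_ker {X Y : Scheme.{u}} (i : X ⟶ Y) (hi : Mor2.IsRegularClosedImmersion i) :
    Mor2.IsRegularClosedImmersion i.ker.subschemeι := by
  haveI := hi.1
  refine ⟨inferInstance, fun z => ?_⟩
  obtain ⟨U, hU, hzU, rs, hrs, hker⟩ := hi.2 (inv i.toImage z)
  refine ⟨U, hU, ?_, rs, hrs, ?_⟩
  · rwa [← Scheme.Hom.comp_apply, show inv i.toImage ≫ i = i.ker.subschemeι from
      (IsIso.inv_comp_eq _).2 i.toImage_imageι.symm] at hzU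
  · rw [Scheme.IdealSheafData.ker_subschemeι]
    exact hker

/-- The extensions in the ambient scheme, from those on the closed subscheme. -/
theorem qSplits_ker {X Y : Scheme.{u}} (i : X ⟶ Y) [IsClosedImmersion i]
    (h : QSplits (Coh.structureModule X) (Omega.conormal i)) :
    QSplits (ClSub.quotMod i.ker) (ClSub.idealMod i.ker) :=
  let μ : ClSub.quotMod i.ker ≅ (Scheme.Modules.pushforward i).obj (Coh.structureModule X) :=
    (Scheme.Modules.pushforward i.ker.subschemeι).mapIso (FlatCx12.RelPCOps.pushStructureIso (asIso i.toImage)).symm ≪≫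
      (Scheme.Modules.pushforwardComp i.toImage i.ker.subschemeι).app _ ≪≫
        (Scheme.Modules.pushforwardCongr i.toImage_imageι).app _
  (QSplits.push i h).of_iso μ.symm (Iso.refl _)

variable {k : Type u} [Field k] {Y : Scheme.{u}} {y : Y ⟶ specPt k} {H : Over (specPt k)} {Z : FGA.HilbSet y H}

/-- Artinian points centred at a point with surjective local Hilbert functor lift. -/
theorem exists_lift_hilb [IsProper y] (hH : FGA.HilbRepresentedBy y H Z) {X : Scheme.{u}} {i : X ⟶ Y}
    [IsClosedImmersion i] {h : Over.mk (𝟙 (specPt k)) ⟶ H}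
    (hh : FGA.hilbPull y h Z.1 = i.ker.comap (pullback.fst y (Over.mk (𝟙 (specPt k))).hom))
    {B A : Art k k} (q : B ⟶ A) (hsurj : Function.Surjective ((localHilb Y y i.ker).map q))
    (u : Art.spec A ⟶ H.left) (hu : u ≫ H.hom = specOver A) (hc : specRes A ≫ u = h.left) :
    ∃ v : Art.spec B ⟶ H.left, v ≫ H.hom = specOver B ∧ specMap q ≫ v = u := by
  let g : HilbT29.overA A ⟶ H := Over.homMk u hu
  obtain ⟨J', hJ'⟩ := hsurj (HilbT29.defOf hh g hc)
  obtain ⟨g', hg', hdef⟩ := HilbT29.exists_point hh hH J'
  refine ⟨g'.left, Over.w g', ?_⟩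
  have hw : (specMap q ≫ g'.left) ≫ H.hom = specOver A := by
    rw [Category.assoc, Over.w g']
    exact specOver_comp q
  let g'' : HilbT29.overA A ⟶ H := Over.homMk (specMap q ≫ g'.left) hw
  have he : g'' = g := HilbT29.eq_of_pullZ_eq hH g'' g ((HilbT29.pullZ_map q g' g'' rfl).trans (by
    rw [show HilbT29.pullZ Z g' = J'.1 from congrArg Subtype.val hdef]
    exact congrArg Subtype.val hJ'))
  exact congrArg (fun f => f.left) he

end Groth.Agent.LciLift29

end
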